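import Mathlib
import Cfsg.Agent.Lib.Helper47.Comm

/-!
Consequences of the coprime-action lemma "fixed points pass to quotients" (the statement of
S0022), taken here as a hypothesis `FixQuot A K` on the pair `(A, K)`:
`K = [K, A] C_K(A)` and `[K, A, A] = [K, A]`.
-/

set_option autoImplicit false

namespace Cfsg.Agent.Lib.Helper29

open scoped commutatorElement

/-- The conclusion of the lemma on fixed points in quotients under coprime action, for the pair
`(A, K)`: every `A`-fixed coset of an `A`-invariant normal subgroup `N` of `K` holds an element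
of `C_K(A)`. -/
def FixQuot {G : Type*} [Group G] (A K : Subgroup G) : Prop :=
  ∀ N : Subgroup G, N ≤ K → K ≤ Subgroup.normalizer (N : Set G) →
    A ≤ Subgroup.normalizer (N : Set G) →
    ∀ k ∈ K, (∀ a ∈ A, a * k * a⁻¹ * k⁻¹ ∈ N) →
      ∃ c ∈ K ⊓ Subgroup.centralizer (A : Set G), k⁻¹ * c ∈ N

theorem commutator_le_of_normalizes {G : Type*} [Group G] (A K : Subgroup G)
    (hAK : A ≤ Subgroup.normalizer (K : Set G)) : ⁅K, A⁆ ≤ K :=
  Cfsg.Agent.Lib.Helper47.commutator_le_of_le_normalizer hAK le_rfl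

/-- Elementwise factorisation `k = n * c` with `n ∈ [K, A]` and `c ∈ C_K(A)`. -/
theorem exists_mul_of_fixQuot {G : Type*} [Group G] (A K : Subgroup G)
    (hAK : A ≤ Subgroup.normalizer (K : Set G)) (h : FixQuot A K) (k : G) (hk : k ∈ K) :
    ∃ n ∈ ⁅K, A⁆, ∃ c ∈ K ⊓ Subgroup.centralizer (A : Set G), k = n * c := by
  have hNK : ⁅K, A⁆ ≤ K := commutator_le_of_normalizes A K hAK
  have hKN := Cfsg.Agent.Lib.Helper47.le_normalizer_commutator_left K A
  have hAN := Cfsg.Agent.Lib.Helper47.le_normalizer_commutator_right K A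
  obtain ⟨c, hc, hkc⟩ := h ⁅K, A⁆ hNK hKN hAN k hk (by
    intro a ha
    have h1 : a * k * a⁻¹ * k⁻¹ = ⁅a, k⁆ := rfl
    rw [h1, Subgroup.commutator_comm]
    exact Subgroup.commutator_mem_commutator ha hk)
  refine ⟨k * (k⁻¹ * c)⁻¹ * k⁻¹, ?_, c, hc, ?_⟩
  · exact (Subgroup.mem_normalizer_iff.mp (hKN hk) _).mp (Subgroup.inv_mem _ hkc)
  · group

/-- `K = [K, A] C_K(A)` from the fixed-points-in-quotients property. -/
theorem commutator_sup_fix_of_fixQuot {G : Type*} [Group G] (A K : Subgroup G)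
    (hAK : A ≤ Subgroup.normalizer (K : Set G)) (h : FixQuot A K) :
    ⁅K, A⁆ ⊔ (K ⊓ Subgroup.centralizer (A : Set G)) = K := by
  apply le_antisymm
  · exact sup_le (commutator_le_of_normalizes A K hAK) inf_le_left
  · intro k hk
    obtain ⟨n, hn, c, hc, rfl⟩ := exists_mul_of_fixQuot A K hAK h k hk
    exact Subgroup.mul_mem _ (Subgroup.mem_sup_left hn) (Subgroup.mem_sup_right hc)

/-- `[K, A, A] = [K, A]` from the fixed-points-in-quotients property. -/
theorem commutator_commutator_of_fixQuot {G : Type*} [Group G] (A K : Subgroup G)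
    (hAK : A ≤ Subgroup.normalizer (K : Set G)) (h : FixQuot A K) :
    ⁅⁅K, A⁆, A⁆ = ⁅K, A⁆ := by
  apply le_antisymm
  · exact Subgroup.commutator_mono (commutator_le_of_normalizes A K hAK) le_rfl
  · rw [Subgroup.commutator_le]
    intro k hk a ha
    obtain ⟨n, hn, c, hc, rfl⟩ := exists_mul_of_fixQuot A K hAK h k hk
    have hca : a * c = c * a := by
      have := Subgroup.mem_centralizer_iff.mp hc.2 a ha
      exact this
    have h1 : ⁅n * c, a⁆ = ⁅n, a⁆ := by
      rw [commutatorElement_def, commutatorElement_def]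
      calc n * c * a * (n * c)⁻¹ * a⁻¹ = n * (c * a) * c⁻¹ * n⁻¹ * a⁻¹ := by group
        _ = n * (a * c) * c⁻¹ * n⁻¹ * a⁻¹ := by rw [hca]
        _ = n * a * n⁻¹ * a⁻¹ := by group
    rw [h1]
    exact Subgroup.commutator_mem_commutator hn ha

end Cfsg.Agent.Lib.Helper29
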