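import Mathlib
import Cfsg.Agent.Lib.Helper91.Wielandt
import Cfsg.Agent.Lib.Helper1.Tools

/-!
# Nilpotent subgroups: `p`-part and `p'`-part as ambient subgroups

Auxiliary material for Wielandt's theorem on products of nilpotent groups of coprime orders.
-/

set_option autoImplicit false

namespace Cfsg.Agent.Lib.Helper29.WP

open scoped Pointwise

universe u

variable {G : Type u} [Group G]

theorem conj_mem_of_mem_normalizer {H : Subgroup G} {g : G}
    (hg : g ∈ Subgroup.normalizer (H : Set G)) {y : G} (hy : y ∈ H) : g * y * g⁻¹ ∈ H :=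
  (Subgroup.mem_normalizer_iff.mp hg y).mp hy

theorem conj_mem_of_mem_normalizer' {H : Subgroup G} {g : G}
    (hg : g ∈ Subgroup.normalizer (H : Set G)) {y : G} (hy : y ∈ H) : g⁻¹ * y * g ∈ H :=
  (Subgroup.mem_normalizer_iff''.mp hg y).mp hy

/-- Every element is the product of a `p'`-element and a `p`-element, both powers of it. -/
theorem exists_decomp_elt [Finite G] (p : ℕ) [Fact p.Prime] (x : G) :
    ∃ u v : G, x = u * v ∧ u ∈ Subgroup.zpowers x ∧ v ∈ Subgroup.zpowers x ∧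
      (orderOf u).Coprime p ∧ ∃ k, orderOf v = p ^ k := by
  have hp : p.Prime := Fact.out
  have hn : orderOf x ≠ 0 := (orderOf_pos x).ne'
  obtain ⟨k, m, hm, hnm⟩ := Nat.exists_eq_pow_mul_and_not_dvd hn p hp.ne_one
  have hcop : Nat.Coprime (p ^ k) m :=
    Nat.Coprime.pow_left k ((Nat.Prime.coprime_iff_not_dvd hp).mpr hm)
  have hb : ((Nat.gcd (p ^ k) m : ℕ) : ℤ) =
      ((p ^ k : ℕ) : ℤ) * Nat.gcdA (p ^ k) m + ((m : ℕ) : ℤ) * Nat.gcdB (p ^ k) m :=
    Nat.gcd_eq_gcd_ab _ _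
  rw [hcop.gcd_eq_one] at hb
  refine ⟨x ^ (((p ^ k : ℕ) : ℤ) * Nat.gcdA (p ^ k) m), x ^ (((m : ℕ) : ℤ) * Nat.gcdB (p ^ k) m),
    ?_, Subgroup.zpow_mem_zpowers x _, Subgroup.zpow_mem_zpowers x _, ?_, ?_⟩
  · rw [← zpow_add, ← hb]; simp
  · have h1 : (x ^ (((p ^ k : ℕ) : ℤ) * Nat.gcdA (p ^ k) m)) ^ m = 1 := by
      rw [← zpow_natCast, ← zpow_mul]
      have h2 : ((p ^ k : ℕ) : ℤ) * Nat.gcdA (p ^ k) m * (m : ℤ) =
          ((orderOf x : ℕ) : ℤ) * Nat.gcdA (p ^ k) m := by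
        rw [hnm]; push_cast; ring
      rw [h2, zpow_mul, zpow_natCast, pow_orderOf_eq_one, one_zpow]
    exact Nat.Coprime.coprime_dvd_left (orderOf_dvd_of_pow_eq_one h1)
      ((Nat.Prime.coprime_iff_not_dvd hp).mpr hm).symm
  · have h1 : (x ^ (((m : ℕ) : ℤ) * Nat.gcdB (p ^ k) m)) ^ (p ^ k) = 1 := by
      rw [← zpow_natCast, ← zpow_mul]
      have h2 : ((m : ℕ) : ℤ) * Nat.gcdB (p ^ k) m * ((p ^ k : ℕ) : ℤ) =
          ((orderOf x : ℕ) : ℤ) * Nat.gcdB (p ^ k) m := by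
        rw [hnm]; push_cast; ring
      rw [h2, zpow_mul, zpow_natCast, pow_orderOf_eq_one, one_zpow]
    obtain ⟨j, -, hj⟩ := (Nat.dvd_prime_pow hp).mp (orderOf_dvd_of_pow_eq_one h1)
    exact ⟨j, hj⟩

/-- The `p'`-part of `X`: generated by the elements of `X` of order prime to `p`. -/
def pc (X : Subgroup G) (p : ℕ) : Subgroup G :=
  Subgroup.closure {x | x ∈ X ∧ (orderOf x).Coprime p}

/-- The `p`-part of `X`: generated by the elements of `X` of `p`-power order. -/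
def pp (X : Subgroup G) (p : ℕ) : Subgroup G :=
  Subgroup.closure {x | x ∈ X ∧ ∃ k, orderOf x = p ^ k}

theorem pc_le (X : Subgroup G) (p : ℕ) : pc X p ≤ X :=
  (Subgroup.closure_le X).mpr fun _ hx => hx.1

theorem pp_le (X : Subgroup G) (p : ℕ) : pp X p ≤ X :=
  (Subgroup.closure_le X).mpr fun _ hx => hx.1

theorem mem_pc {X : Subgroup G} {p : ℕ} {x : G} (hx : x ∈ X) (h : (orderOf x).Coprime p) :
    x ∈ pc X p := Subgroup.subset_closure ⟨hx, h⟩

theorem mem_pp {X : Subgroup G} {p : ℕ} {x : G} (hx : x ∈ X) (h : ∃ k, orderOf x = p ^ k) :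
    x ∈ pp X p := Subgroup.subset_closure ⟨hx, h⟩

theorem le_pc_of_card [Finite G] {X S : Subgroup G} {p : ℕ} (hS : S ≤ X)
    (h : (Nat.card S).Coprime p) : S ≤ pc X p := fun x hx =>
  mem_pc (hS hx) (Nat.Coprime.coprime_dvd_left (Subgroup.orderOf_dvd_natCard S hx) h)

theorem le_pp_of_isPGroup {X S : Subgroup G} {p : ℕ} [Fact p.Prime] (hS : S ≤ X)
    (h : IsPGroup p S) : S ≤ pp X p := fun x hx => by
  obtain ⟨k, hk⟩ := h ⟨x, hx⟩
  have hk' : x ^ p ^ k = 1 := by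
    have := congrArg Subtype.val hk
    simpa using this
  obtain ⟨j, -, hj⟩ := (Nat.dvd_prime_pow Fact.out).mp (orderOf_dvd_of_pow_eq_one hk')
  exact mem_pp (hS hx) ⟨j, hj⟩

theorem conj_mem_closure_of {X : Subgroup G} (P : ℕ → Prop) {g : G}
    (hg : ∀ y ∈ X, g * y * g⁻¹ ∈ X) :
    ∀ y ∈ Subgroup.closure {x | x ∈ X ∧ P (orderOf x)},
      g * y * g⁻¹ ∈ Subgroup.closure {x | x ∈ X ∧ P (orderOf x)} := by
  intro y hy
  induction hy using Subgroup.closure_induction with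
  | mem x hx =>
    refine Subgroup.subset_closure ⟨hg x hx.1, ?_⟩
    have h1 : orderOf (g * x * g⁻¹) = orderOf x :=
      orderOf_injective (MulAut.conj g).toMonoidHom (MulAut.conj g).injective x
    rw [h1]; exact hx.2
  | one => simp
  | mul x y _ _ hx hy =>
    have h1 : g * (x * y) * g⁻¹ = (g * x * g⁻¹) * (g * y * g⁻¹) := by group
    rw [h1]; exact Subgroup.mul_mem _ hx hy
  | inv x _ hx =>
    have h1 : g * x⁻¹ * g⁻¹ = (g * x * g⁻¹)⁻¹ := by group
    rw [h1]; exact Subgroup.inv_mem _ hx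

theorem normalizer_le_pc (X : Subgroup G) (p : ℕ) :
    Subgroup.normalizer (X : Set G) ≤ Subgroup.normalizer (pc X p : Set G) :=
  Subgroup.le_normalizer_iff.mpr fun g hg y hy =>
    conj_mem_closure_of (fun n => n.Coprime p) (fun _ hy => conj_mem_of_mem_normalizer hg hy) y hy

theorem normalizer_le_pp (X : Subgroup G) (p : ℕ) :
    Subgroup.normalizer (X : Set G) ≤ Subgroup.normalizer (pp X p : Set G) :=
  Subgroup.le_normalizer_iff.mpr fun g hg y hy =>
    conj_mem_closure_of (fun n => ∃ k, n = p ^ k)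
      (fun _ hy => conj_mem_of_mem_normalizer hg hy) y hy

theorem le_normalizer_pc (X : Subgroup G) (p : ℕ) :
    X ≤ Subgroup.normalizer (pc X p : Set G) :=
  Subgroup.le_normalizer.trans (normalizer_le_pc X p)

theorem le_normalizer_pp (X : Subgroup G) (p : ℕ) :
    X ≤ Subgroup.normalizer (pp X p : Set G) :=
  Subgroup.le_normalizer.trans (normalizer_le_pp X p)

theorem exists_decomp [Finite G] {X : Subgroup G} (p : ℕ) [Fact p.Prime] {x : G} (hx : x ∈ X) :
    ∃ u ∈ pc X p, ∃ v ∈ pp X p, x = u * v := by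
  obtain ⟨u, v, huv, hu, hv, huc, hvk⟩ := exists_decomp_elt p x
  have hzX : Subgroup.zpowers x ≤ X := Subgroup.zpowers_le.mpr hx
  exact ⟨u, mem_pc (hzX hu) huc, v, mem_pp (hzX hv) hvk, huv⟩

theorem le_pc_sup_pc [Finite G] (X : Subgroup G) {p q : ℕ} [Fact p.Prime] [Fact q.Prime]
    (hpq : p ≠ q) : X ≤ pc X p ⊔ pc X q := by
  intro x hx
  obtain ⟨u, v, huv, hu, hv, huc, k, hvk⟩ := exists_decomp_elt p x
  have hzX : Subgroup.zpowers x ≤ X := Subgroup.zpowers_le.mpr hx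
  rw [huv]
  refine Subgroup.mul_mem_sup (mem_pc (hzX hu) huc) (mem_pc (hzX hv) ?_)
  rw [hvk]
  exact Nat.Coprime.pow_left k ((Nat.coprime_primes Fact.out Fact.out).mpr hpq)

section Nil

variable [Finite G] {X : Subgroup G} {p : ℕ} [Fact p.Prime]

theorem pc_eq_map (hX : Group.IsNilpotent X) :
    ∃ K₀ : Subgroup X, Helper54.IsNormalPComplement p K₀ ∧ pc X p = K₀.map X.subtype := by
  obtain ⟨K₀, hK₀n, hK₀c, k, hk⟩ :=
    Helper91.exists_normal_complement_of_nilpotent_aux p _ X rfl hX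
  have hK₀ : Helper54.IsNormalPComplement p K₀ := ⟨hK₀n, hK₀c, k, hk⟩
  refine ⟨K₀, hK₀, le_antisymm ?_ ?_⟩
  · refine (Subgroup.closure_le _).mpr ?_
    rintro x ⟨hx, hc⟩
    refine ⟨⟨x, hx⟩, hK₀.mem_of_coprime ?_, rfl⟩
    rw [Subgroup.orderOf_mk]; exact hc
  · rintro _ ⟨y, hy, rfl⟩
    have h1 := hK₀.coprime_of_mem hy
    rw [← Subgroup.orderOf_coe] at h1
    exact mem_pc y.2 h1

theorem card_pc_coprime (hX : Group.IsNilpotent X) : (Nat.card (pc X p)).Coprime p := by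
  obtain ⟨K₀, hK₀, h⟩ := pc_eq_map (p := p) hX
  rw [h, Subgroup.card_map_of_injective X.subtype_injective]
  exact hK₀.2.1

theorem card_eq_pow_mul_card_pc (hX : Group.IsNilpotent X) :
    ∃ k, Nat.card X = p ^ k * Nat.card (pc X p) := by
  obtain ⟨K₀, hK₀, h⟩ := pc_eq_map (p := p) hX
  obtain ⟨k, hk⟩ := hK₀.2.2
  refine ⟨k, ?_⟩
  rw [h, Subgroup.card_map_of_injective X.subtype_injective, ← hk, mul_comm]
  exact (K₀.card_mul_index).symm

theorem orderOf_coprime_of_mem_pc (hX : Group.IsNilpotent X) {x : G} (hx : x ∈ pc X p) :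
    (orderOf x).Coprime p :=
  Nat.Coprime.coprime_dvd_left (Subgroup.orderOf_dvd_natCard _ hx) (card_pc_coprime hX)

theorem pc_ne_bot (hX : Group.IsNilpotent X) (h : ∀ k, Nat.card X ≠ p ^ k) : pc X p ≠ ⊥ := by
  intro hb
  obtain ⟨k, hk⟩ := card_eq_pow_mul_card_pc (p := p) hX
  rw [hb, Subgroup.card_bot, mul_one] at hk
  exact h k hk

theorem isPGroup_pp (hX : Group.IsNilpotent X) : IsPGroup p (pp X p) := by
  obtain ⟨P⟩ : Nonempty (Sylow p X) := inferInstance
  have hPn : (P : Subgroup X).Normal := inferInstance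
  have hle : pp X p ≤ (P : Subgroup X).map X.subtype := by
    refine (Subgroup.closure_le _).mpr ?_
    rintro x ⟨hx, k, hk⟩
    have hz : IsPGroup p (Subgroup.zpowers (⟨x, hx⟩ : X)) := by
      rw [IsPGroup.iff_card, Nat.card_zpowers, Subgroup.orderOf_mk, hk]
      exact ⟨k, rfl⟩
    obtain ⟨Q, hQ⟩ := hz.exists_le_sylow
    have hQP : P = Q := by
      obtain ⟨g, hg⟩ := MulAction.exists_smul_eq X P Q
      rwa [Sylow.smul_eq_of_normal] at hg
    refine ⟨⟨x, hx⟩, ?_, rfl⟩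
    have h1 : (⟨x, hx⟩ : X) ∈ (Q : Subgroup X) := hQ (Subgroup.mem_zpowers _)
    rw [← hQP] at h1
    exact h1
  exact (P.2.map X.subtype).to_le hle

theorem commute_pp_pc (hX : Group.IsNilpotent X) {u w : G} (hu : u ∈ pp X p)
    (hw : w ∈ pc X p) : u * w = w * u := by
  have h1 : u * w * u⁻¹ * w⁻¹ ∈ pp X p := by
    have h0 : w * u⁻¹ * w⁻¹ ∈ pp X p :=
      conj_mem_of_mem_normalizer (le_normalizer_pp X p (pc_le X p hw)) (Subgroup.inv_mem _ hu)
    have h2 := Subgroup.mul_mem _ hu h0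
    simpa [mul_assoc] using h2
  have h2 : u * w * u⁻¹ * w⁻¹ ∈ pc X p := by
    have h0 : u * w * u⁻¹ ∈ pc X p :=
      conj_mem_of_mem_normalizer (le_normalizer_pc X p (pp_le X p hu)) hw
    exact Subgroup.mul_mem _ h0 (Subgroup.inv_mem _ hw)
  have h3 : u * w * u⁻¹ * w⁻¹ = 1 := by
    obtain ⟨j, hj⟩ := (isPGroup_pp hX) ⟨_, h1⟩
    have hj' : (u * w * u⁻¹ * w⁻¹) ^ p ^ j = 1 := by
      have := congrArg Subtype.val hj
      simpa using this
    have h4 : orderOf (u * w * u⁻¹ * w⁻¹) = 1 :=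
      Nat.eq_one_of_dvd_coprimes (Nat.Coprime.pow_right j (orderOf_coprime_of_mem_pc hX h2))
        dvd_rfl (orderOf_dvd_of_pow_eq_one hj')
    exact orderOf_eq_one_iff.mp h4
  have := congrArg (fun z => z * w * u) h3
  simpa [mul_assoc] using this

theorem exists_central (hX : Group.IsNilpotent X) (hne : X ≠ ⊥) :
    ∃ z ∈ X, z ≠ 1 ∧ ∀ x ∈ X, x * z = z * x := by
  have : Nontrivial X := (Subgroup.nontrivial_iff_ne_bot X).mpr hne
  have hc : Subgroup.center X ≠ ⊥ := Group.IsNilpotent.center_ne_bot X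
  rcases Subgroup.bot_or_exists_ne_one (Subgroup.center X) with h | ⟨z, hz, hz1⟩
  · exact absurd h hc
  · refine ⟨z, z.2, fun h => hz1 (Subtype.ext h), fun x hx => ?_⟩
    have := Subgroup.mem_center_iff.mp hz ⟨x, hx⟩
    exact congrArg Subtype.val this

theorem central_of_central_pc (hX : Group.IsNilpotent X) {c : G} (hc : c ∈ pc X p)
    (hcc : ∀ w ∈ pc X p, w * c = c * w) : ∀ x ∈ X, x * c = c * x := by
  intro x hx
  obtain ⟨u, hu, v, hv, rfl⟩ := exists_decomp p hx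
  have h1 := hcc u hu
  have h2 := commute_pp_pc hX hv hc
  calc u * v * c = u * (v * c) := by rw [mul_assoc]
    _ = u * (c * v) := by rw [h2]
    _ = (u * c) * v := by rw [mul_assoc]
    _ = (c * u) * v := by rw [h1]
    _ = c * (u * v) := by rw [mul_assoc]

theorem central_of_central_pp (hX : Group.IsNilpotent X) {c : G} (hc : c ∈ pp X p)
    (hcc : ∀ w ∈ pp X p, w * c = c * w) : ∀ x ∈ X, x * c = c * x := by
  intro x hx
  obtain ⟨u, hu, v, hv, rfl⟩ := exists_decomp p hx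
  have h1 := hcc v hv
  have h2 := commute_pp_pc hX hc hu
  calc u * v * c = u * (v * c) := by rw [mul_assoc]
    _ = u * (c * v) := by rw [h1]
    _ = (u * c) * v := by rw [mul_assoc]
    _ = (c * u) * v := by rw [h2]
    _ = c * (u * v) := by rw [mul_assoc]

theorem exists_central_prime (hX : Group.IsNilpotent X) (ht : p ∣ Nat.card X) :
    ∃ z ∈ pp X p, orderOf z = p ∧ ∀ x ∈ X, x * z = z * x := by
  obtain ⟨y, hy⟩ := exists_prime_orderOf_dvd_card' p ht
  have hy' : orderOf (y : G) = p := by rw [Subgroup.orderOf_coe]; exact hy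
  have hypp : (y : G) ∈ pp X p := mem_pp y.2 ⟨1, by rw [hy', pow_one]⟩
  have hne : pp X p ≠ ⊥ := by
    intro h
    rw [h, Subgroup.mem_bot] at hypp
    rw [hypp, orderOf_one] at hy'
    exact (Fact.out : p.Prime).one_lt.ne hy'
  have hnil : Group.IsNilpotent (pp X p) := Helper91.isNilpotent_of_le hX (pp_le X p)
  have hZne : pp X p ⊓ Subgroup.centralizer (pp X p : Set G) ≠ ⊥ := by
    obtain ⟨z, hz, hz1, hzc⟩ := exists_central hnil hne
    intro h
    have h1 : z ∈ pp X p ⊓ Subgroup.centralizer (pp X p : Set G) :=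
      ⟨hz, Subgroup.mem_centralizer_iff.mpr fun w hw => hzc w hw⟩
    rw [h, Subgroup.mem_bot] at h1
    exact hz1 h1
  have hZp : IsPGroup p ↥(pp X p ⊓ Subgroup.centralizer (pp X p : Set G)) :=
    (isPGroup_pp hX).to_le inf_le_left
  obtain ⟨j, hj⟩ := IsPGroup.iff_card.mp hZp
  have hdvd : p ∣ Nat.card ↥(pp X p ⊓ Subgroup.centralizer (pp X p : Set G)) := by
    have h1 : 1 < Nat.card ↥(pp X p ⊓ Subgroup.centralizer (pp X p : Set G)) :=
      (Subgroup.one_lt_card_iff_ne_bot _).mpr hZne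
    rw [hj] at h1 ⊢
    have : j ≠ 0 := by rintro rfl; simp at h1
    exact dvd_pow_self p this
  obtain ⟨z, hz⟩ := exists_prime_orderOf_dvd_card' p hdvd
  have hz' : orderOf (z : G) = p := by rw [Subgroup.orderOf_coe]; exact hz
  have hzZ : (z : G) ∈ pp X p ⊓ Subgroup.centralizer (pp X p : Set G) := z.2
  exact ⟨z, hzZ.1, hz', central_of_central_pp hX hzZ.1 fun w hw =>
    Subgroup.mem_centralizer_iff.mp hzZ.2 w hw⟩

end Nil

end Cfsg.Agent.Lib.Helper29.WP
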