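import Mathlib
import Cfsg.Agent.Lib.Helper29.WPNil
import Cfsg.Agent.Lib.Helper91.Coprime2
import Cfsg.Agent.Lib.Helper3.Burnside
import Cfsg.Agent.Lib.Helper1.Hall
import Cfsg.Agent.Lib.Helper71.Fitting
import Cfsg.Agent.S0561
import Cfsg.Agent.S0562
import Cfsg.Agent.S0566
import Cfsg.Agent.S0044

/-!
# Wielandt's theorem on products of nilpotent groups of coprime orders: the generation lemma
-/

set_option autoImplicit false

namespace Cfsg.Agent.Lib.Helper29.WP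

open scoped Pointwise

universe u

variable {G : Type u} [Group G]

theorem conj_smul_eq_of_mem_normalizer {H : Subgroup G} {g : G}
    (hg : g ∈ Subgroup.normalizer (H : Set G)) : MulAut.conj g • H = H := by
  ext x
  rw [Helper1.mem_conj_smul]
  exact (Subgroup.mem_normalizer_iff''.mp hg x).symm

theorem mem_normalizer_of_conj_smul_eq {H : Subgroup G} {g : G}
    (h : MulAut.conj g • H = H) : g ∈ Subgroup.normalizer (H : Set G) := by
  rw [Subgroup.mem_normalizer_iff'']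
  intro x
  rw [← Helper1.mem_conj_smul, h]

theorem conj_smul_eq_of_le [Finite G] {H K : Subgroup G} {g : G}
    (h : MulAut.conj g • H ≤ K) (hc : Nat.card K ≤ Nat.card H) : MulAut.conj g • H = K :=
  Subgroup.eq_of_le_of_card_ge h (by rw [Helper1.card_conj_smul]; exact hc)

theorem commute_zpowers {x z : G} (hxz : x * z = z * x) :
    ∀ y ∈ Subgroup.zpowers z, y * x = x * y := by
  have h1 : Subgroup.zpowers z ≤ Subgroup.centralizer ({x} : Set G) :=
    Subgroup.zpowers_le.mpr (Subgroup.mem_centralizer_iff.mpr fun y hy => by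
      rw [Set.mem_singleton_iff] at hy; rw [hy]; exact hxz)
  intro y hy
  exact (Subgroup.mem_centralizer_iff.mp (h1 hy) x (Set.mem_singleton x)).symm

theorem fac_symm {A B M : Subgroup G}
    (hfac : ∀ g ∈ M, ∃ a ∈ A ⊓ M, ∃ b ∈ B ⊓ M, g = a * b) :
    ∀ g ∈ M, ∃ b ∈ B ⊓ M, ∃ a ∈ A ⊓ M, g = b * a := by
  intro g hg
  obtain ⟨a, ha, b, hb, e⟩ := hfac g⁻¹ (M.inv_mem hg)
  exact ⟨b⁻¹, Subgroup.inv_mem _ hb, a⁻¹, Subgroup.inv_mem _ ha, by
    rw [← mul_inv_rev, ← e, inv_inv]⟩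

theorem pp_ne_bot_of_dvd [Finite G] {X : Subgroup G} {p : ℕ} [Fact p.Prime]
    (ht : p ∣ Nat.card X) : pp X p ≠ ⊥ := by
  obtain ⟨y, hy⟩ := exists_prime_orderOf_dvd_card' p ht
  have hy' : orderOf (y : G) = p := by rw [Subgroup.orderOf_coe]; exact hy
  have hypp : (y : G) ∈ pp X p := mem_pp y.2 ⟨1, by rw [hy', pow_one]⟩
  intro h
  rw [h, Subgroup.mem_bot] at hypp
  rw [hypp, orderOf_one] at hy'
  exact (Fact.out : p.Prime).one_lt.ne hy'

theorem pc_le_centralizer [Finite G] {X N : Subgroup G} {p : ℕ} [Fact p.Prime]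
    (hX : Group.IsNilpotent X) (hN : N ≤ X) (hNp : IsPGroup p N) :
    pc X p ≤ Subgroup.centralizer (N : Set G) := by
  intro w hw
  rw [Subgroup.mem_centralizer_iff]
  intro y hy
  exact commute_pp_pc hX (le_pp_of_isPGroup hN hNp hy) hw

theorem pc_le_normalizer [Finite G] {X N : Subgroup G} {p : ℕ} [Fact p.Prime]
    (hX : Group.IsNilpotent X) (hN : N ≤ X) (hNp : IsPGroup p N) :
    pc X p ≤ Subgroup.normalizer (N : Set G) :=
  (pc_le_centralizer hX hN hNp).trans (Subgroup.centralizer_le_normalizer _)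

/-- Wielandt's theorem relative to a subgroup `L`. -/
theorem rel_wielandt [Finite G] {L H S : Subgroup G} (hHL : H ≤ L) (hnil : Group.IsNilpotent H)
    (hHall : (Nat.card H).Coprime (H.relIndex L)) (hSL : S ≤ L)
    (hS : ∀ p : ℕ, p.Prime → p ∣ Nat.card S → p ∣ Nat.card H) :
    ∃ x ∈ L, S ≤ MulAut.conj x • H := by
  have hnil' : Group.IsNilpotent (H.subgroupOf L) :=
    Group.nilpotent_of_mulEquiv (Subgroup.subgroupOfEquivOfLe hHL).symm
  have hc : Nat.card (H.subgroupOf L) = Nat.card H := Helper1.card_subgroupOf_of_le hHL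
  have hcS : Nat.card (S.subgroupOf L) = Nat.card S := Helper1.card_subgroupOf_of_le hSL
  obtain ⟨x, hx⟩ := Helper91.wielandt (H.subgroupOf L) (S.subgroupOf L) hnil'
    (by rw [hc]; exact hHall)
    (by intro p hp hpd; rw [hc]; rw [hcS] at hpd; exact hS p hp hpd)
  refine ⟨x, x.2, fun s hs => ?_⟩
  have h1 : (⟨s, hSL hs⟩ : L) ∈ MulAut.conj x • H.subgroupOf L :=
    hx (Subgroup.mem_subgroupOf.mpr hs)
  rw [Helper1.mem_conj_smul] at h1 ⊢
  exact Subgroup.mem_subgroupOf.mp h1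

/-- The Hall-product theorem `S0561` relative to a solvable subgroup `M`. -/
theorem rel_prod [Finite G] {M H K A₁ B₁ : Subgroup G} (hsol : Group.IsSolvable M)
    (hfac : ∀ g ∈ M, ∃ h ∈ H ⊓ M, ∃ k ∈ K ⊓ M, g = h * k)
    (hA : A₁ ≤ H ⊓ M) (hAn : H ⊓ M ≤ Subgroup.normalizer (A₁ : Set G))
    (hB : B₁ ≤ K ⊓ M) (hBn : K ⊓ M ≤ Subgroup.normalizer (B₁ : Set G))
    (hAh : (Nat.card A₁).Coprime (A₁.relIndex M))
    (hBh : (Nat.card B₁).Coprime (B₁.relIndex M)) :
    ∃ S : Subgroup G, S ≤ M ∧ (S : Set G) = (A₁ : Set G) * (B₁ : Set G) := by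
  have hAM : A₁ ≤ M := hA.trans inf_le_right
  have hBM : B₁ ≤ M := hB.trans inf_le_right
  have hHK : ∀ g : M, ∃ h ∈ H.subgroupOf M, ∃ k ∈ K.subgroupOf M, g = h * k := by
    intro g
    obtain ⟨h, hh, k, hk, e⟩ := hfac g g.2
    exact ⟨⟨h, hh.2⟩, Subgroup.mem_subgroupOf.mpr hh.1, ⟨k, hk.2⟩,
      Subgroup.mem_subgroupOf.mpr hk.1, Subtype.ext e⟩
  have hA' : A₁.subgroupOf M ≤ H.subgroupOf M := fun x hx =>
    Subgroup.mem_subgroupOf.mpr (hA (Subgroup.mem_subgroupOf.mp hx)).1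
  have hB' : B₁.subgroupOf M ≤ K.subgroupOf M := fun x hx =>
    Subgroup.mem_subgroupOf.mpr (hB (Subgroup.mem_subgroupOf.mp hx)).1
  have hAn' : ((A₁.subgroupOf M).subgroupOf (H.subgroupOf M)).Normal := by
    refine (Subgroup.normal_subgroupOf_iff_le_normalizer hA').mpr ?_
    refine Subgroup.le_normalizer_iff.mpr fun g hg y hy => ?_
    exact Subgroup.mem_subgroupOf.mpr (conj_mem_of_mem_normalizer
      (hAn ⟨Subgroup.mem_subgroupOf.mp hg, g.2⟩) (Subgroup.mem_subgroupOf.mp hy))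
  have hBn' : ((B₁.subgroupOf M).subgroupOf (K.subgroupOf M)).Normal := by
    refine (Subgroup.normal_subgroupOf_iff_le_normalizer hB').mpr ?_
    refine Subgroup.le_normalizer_iff.mpr fun g hg y hy => ?_
    exact Subgroup.mem_subgroupOf.mpr (conj_mem_of_mem_normalizer
      (hBn ⟨Subgroup.mem_subgroupOf.mp hg, g.2⟩) (Subgroup.mem_subgroupOf.mp hy))
  have hAh' : (Nat.card (A₁.subgroupOf M)).Coprime (A₁.subgroupOf M).index := by
    rw [Helper1.card_subgroupOf_of_le hAM]; exact hAh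
  have hBh' : (Nat.card (B₁.subgroupOf M)).Coprime (B₁.subgroupOf M).index := by
    rw [Helper1.card_subgroupOf_of_le hBM]; exact hBh
  obtain ⟨S, hS⟩ := Cfsg.Agent.S0561.result (G := M) (H.subgroupOf M) (K.subgroupOf M)
    (A₁.subgroupOf M) (B₁.subgroupOf M) hHK hA' hAn' hB' hBn' hAh' hBh' 1 1
  rw [map_one, one_smul, one_smul] at hS
  refine ⟨S.map M.subtype, Subgroup.map_subtype_le _, ?_⟩
  ext y
  constructor
  · rintro ⟨s, hs, rfl⟩
    have h1 : s ∈ ((A₁.subgroupOf M : Subgroup M) : Set M) * ((B₁.subgroupOf M : Subgroup M) : Set M) := by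
      rw [← hS]; exact hs
    obtain ⟨a, ha, b, hb, rfl⟩ := Set.mem_mul.mp h1
    exact Set.mem_mul.mpr ⟨a, Subgroup.mem_subgroupOf.mp ha, b, Subgroup.mem_subgroupOf.mp hb, rfl⟩
  · intro hy
    obtain ⟨a, ha, b, hb, rfl⟩ := Set.mem_mul.mp hy
    refine ⟨⟨a, hAM ha⟩ * ⟨b, hBM hb⟩, ?_, rfl⟩
    rw [SetLike.mem_coe, ← SetLike.mem_coe, hS]
    exact Set.mul_mem_mul (Subgroup.mem_subgroupOf.mpr ha) (Subgroup.mem_subgroupOf.mpr hb)

/-- The Fitting subgroup of a solvable subgroup, as a subgroup of the ambient group. -/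
theorem exists_fitting [Finite G] (K : Subgroup G) (hsol : Group.IsSolvable K) :
    ∃ F : Subgroup G, F ≤ K ∧ K ≤ Subgroup.normalizer (F : Set G) ∧ Group.IsNilpotent F ∧
      ∀ x ∈ K, (∀ y ∈ F, y * x = x * y) → x ∈ F := by
  have hn : (Cfsg.fittingSubgroup K).Normal := inferInstance
  refine ⟨(Cfsg.fittingSubgroup K).map K.subtype, Subgroup.map_subtype_le _, ?_, ?_, ?_⟩
  · refine Subgroup.le_normalizer_iff.mpr ?_
    rintro k hk _ ⟨y, hy, rfl⟩
    exact ⟨⟨k, hk⟩ * y * ⟨k, hk⟩⁻¹, hn.conj_mem y hy ⟨k, hk⟩, rfl⟩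
  · haveI : Group.IsNilpotent (Cfsg.fittingSubgroup K) := Helper71.fittingSubgroup_isNilpotent
    exact Group.nilpotent_of_mulEquiv
      ((Cfsg.fittingSubgroup K).equivMapOfInjective K.subtype K.subtype_injective)
  · intro x hx hc
    have h1 : (⟨x, hx⟩ : K) ∈ Subgroup.centralizer (Cfsg.fittingSubgroup K : Set K) := by
      rw [Subgroup.mem_centralizer_iff]
      intro y hy
      exact Subtype.ext (hc y ⟨y, hy, rfl⟩)
    exact ⟨⟨x, hx⟩, Cfsg.Agent.S0044.result h1, rfl⟩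

/-- The configuration of a minimal counterexample to Wielandt's theorem. -/
structure Cfg (A B : Subgroup G) : Prop where
  nilA : Group.IsNilpotent A
  nilB : Group.IsNilpotent B
  cop : (Nat.card A).Coprime (Nat.card B)
  fac : ∀ g : G, ∃ a ∈ A, ∃ b ∈ B, g = a * b
  simple : ∀ N : Subgroup G, N.Normal → N = ⊥ ∨ N = ⊤
  IH : ∀ L : Subgroup G, L ≠ ⊤ → (∀ g ∈ L, ∃ a ∈ A ⊓ L, ∃ b ∈ B ⊓ L, g = a * b) → Group.IsSolvable L
  nsol : ¬ Group.IsSolvable G

/-- `A₀` is a nontrivial subgroup of `A` normalized by `A`. -/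
def Val (A A₀ : Subgroup G) : Prop :=
  A₀ ≤ A ∧ A₀ ≠ ⊥ ∧ A ≤ Subgroup.normalizer (A₀ : Set G)

theorem val_zpowers {A : Subgroup G} {z : G} (hz : z ∈ A) (hz1 : z ≠ 1)
    (hzc : ∀ x ∈ A, x * z = z * x) : Val A (Subgroup.zpowers z) := by
  refine ⟨Subgroup.zpowers_le.mpr hz, fun h => hz1 (Subgroup.zpowers_eq_bot.mp h), ?_⟩
  refine Subgroup.le_normalizer_iff.mpr fun x hx y hy => ?_
  have h1 := commute_zpowers (hzc x hx) y hy
  rw [← h1, mul_inv_cancel_right]; exact hy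

namespace Cfg

variable [Finite G] {A B : Subgroup G}

theorem symm (h : Cfg A B) : Cfg B A where
  nilA := h.nilB
  nilB := h.nilA
  cop := h.cop.symm
  fac := fun g => by
    obtain ⟨a, ha, b, hb, e⟩ := h.fac g⁻¹
    exact ⟨b⁻¹, B.inv_mem hb, a⁻¹, A.inv_mem ha, by rw [← mul_inv_rev, ← e, inv_inv]⟩
  simple := h.simple
  IH := fun L hL hf => h.IH L hL (fac_symm hf)
  nsol := h.nsol

theorem inf_eq_bot (h : Cfg A B) : A ⊓ B = ⊥ :=
  (Subgroup.disjoint_of_coprime_natCard h.cop).eq_bot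

theorem eq_one_of_mem (h : Cfg A B) {x : G} (ha : x ∈ A) (hb : x ∈ B) : x = 1 := by
  have h1 : x ∈ A ⊓ B := ⟨ha, hb⟩
  rwa [h.inf_eq_bot, Subgroup.mem_bot] at h1

theorem card_eq (h : Cfg A B) : Nat.card G = Nat.card A * Nat.card B := by
  rw [← Nat.card_prod]
  symm
  refine Nat.card_congr (Equiv.ofBijective (fun x : A × B => (x.1 : G) * (x.2 : G)) ⟨?_, ?_⟩)
  · rintro ⟨a, b⟩ ⟨a', b'⟩ hab
    have hab' : (a : G) * b = a' * b' := hab
    have h1 : (a' : G)⁻¹ * a = b' * (b : G)⁻¹ := by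
      rw [inv_mul_eq_iff_eq_mul, ← mul_assoc, ← hab', mul_inv_cancel_right]
    have h2 : (a' : G)⁻¹ * a = 1 :=
      h.eq_one_of_mem (A.mul_mem (A.inv_mem a'.2) a.2)
        (by rw [h1]; exact B.mul_mem b'.2 (B.inv_mem b.2))
    have h3 : (b' : G) * (b : G)⁻¹ = 1 := by rw [← h1]; exact h2
    have ha : (a' : G) = a := inv_mul_eq_one.mp h2
    have hb : (b' : G) = b := mul_inv_eq_one.mp h3
    exact Prod.ext (Subtype.ext ha.symm) (Subtype.ext hb.symm)
  · intro g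
    obtain ⟨a, ha, b, hb, e⟩ := h.fac g
    exact ⟨(⟨a, ha⟩, ⟨b, hb⟩), e.symm⟩

theorem index_A (h : Cfg A B) : A.index = Nat.card B := by
  have h1 := A.card_mul_index
  rw [h.card_eq] at h1
  exact Nat.eq_of_mul_eq_mul_left Nat.card_pos h1

theorem A_ne_bot (h : Cfg A B) : A ≠ ⊥ := by
  intro hA
  apply h.nsol
  have hB : B = ⊤ := by
    rw [eq_top_iff]
    intro g _
    obtain ⟨a, ha, b, hb, e⟩ := h.fac g
    rw [hA, Subgroup.mem_bot] at ha
    rw [e, ha, one_mul]; exact hb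
  have h1 : Group.IsNilpotent (⊤ : Subgroup G) := hB ▸ h.nilB
  have h2 : Group.IsNilpotent G := Group.nilpotent_of_mulEquiv Subgroup.topEquiv
  infer_instance

theorem B_ne_bot (h : Cfg A B) : B ≠ ⊥ := h.symm.A_ne_bot

theorem A_ne_top (h : Cfg A B) : A ≠ ⊤ := by
  intro hA
  apply h.B_ne_bot
  have h1 := h.inf_eq_bot
  rwa [hA, top_inf_eq] at h1

theorem B_ne_top (h : Cfg A B) : B ≠ ⊤ := h.symm.A_ne_top

theorem eq_bot_of_normal (h : Cfg A B) {N : Subgroup G} (hN : N.Normal) (hne : N ≠ ⊤) :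
    N = ⊥ :=
  (h.simple N hN).resolve_right hne

theorem eq_bot_of_normalizer (h : Cfg A B) {N : Subgroup G}
    (hN : Subgroup.normalizer (N : Set G) = ⊤) (hne : N ≠ ⊤) : N = ⊥ :=
  h.eq_bot_of_normal (Subgroup.normalizer_eq_top_iff.mp hN) hne

theorem center_eq_bot (h : Cfg A B) : Subgroup.center G = ⊥ := by
  refine h.eq_bot_of_normal inferInstance fun htop => h.nsol ?_
  exact Group.isSolvable_of_comm fun a b => by
    have h1 : b ∈ Subgroup.center G := htop ▸ Subgroup.mem_top b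
    exact Subgroup.mem_center_iff.mp h1 a

theorem prime_dvd_A (h : Cfg A B) {S : Subgroup G} (hS : (Nat.card S).Coprime (Nat.card B))
    {p : ℕ} (hp : p.Prime) (hpS : p ∣ Nat.card S) : p ∣ Nat.card A := by
  have h1 : p ∣ Nat.card A * Nat.card B :=
    h.card_eq ▸ hpS.trans (Subgroup.card_subgroup_dvd_card S)
  rcases (Nat.Prime.dvd_mul hp).mp h1 with h2 | h2
  · exact h2
  · exact absurd (Nat.eq_one_of_dvd_coprimes hS hpS h2) hp.ne_one

/-- Wielandt: subgroups of order prime to `|B|` lie in a `B`-conjugate of `A`. -/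
theorem wiel (h : Cfg A B) {S : Subgroup G} (hS : (Nat.card S).Coprime (Nat.card B)) :
    ∃ b ∈ B, S ≤ MulAut.conj b • A := by
  obtain ⟨x, hx⟩ := Helper91.wielandt A S h.nilA (by rw [h.index_A]; exact h.cop)
    (fun p hp hpS => h.prime_dvd_A hS hp hpS)
  obtain ⟨b, hb, a, ha, e⟩ := h.symm.fac x
  refine ⟨b, hb, ?_⟩
  rw [e, map_mul, mul_smul, Helper1.conj_smul_eq_self A a ha] at hx
  exact hx

theorem coprime_of_le_A (h : Cfg A B) {S : Subgroup G} (hS : S ≤ A) :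
    (Nat.card S).Coprime (Nat.card B) :=
  Nat.Coprime.coprime_dvd_left (Subgroup.card_dvd_of_le hS) h.cop

theorem card_dvd_A (h : Cfg A B) {S : Subgroup G} (hS : (Nat.card S).Coprime (Nat.card B)) :
    Nat.card S ∣ Nat.card A := by
  have h1 : Nat.card S ∣ Nat.card A * Nat.card B :=
    h.card_eq ▸ Subgroup.card_subgroup_dvd_card S
  exact hS.dvd_of_dvd_mul_right h1

/-- Subgroups of `N_G(A)` of order prime to `|B|` lie in `A`. -/
theorem le_A_of_le_normalizer (h : Cfg A B) {R : Subgroup G}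
    (hR : R ≤ Subgroup.normalizer (A : Set G)) (hc : (Nat.card R).Coprime (Nat.card B)) :
    R ≤ A := by
  have h1 := Helper91.card_sup_mul_card_inf_of_le_normalizer A R hR
  have h2 : Nat.card (A ⊔ R : Subgroup G) ∣ Nat.card A * Nat.card R := Dvd.intro _ h1
  have h3 : (Nat.card (A ⊔ R : Subgroup G)).Coprime (Nat.card B) :=
    Nat.Coprime.coprime_dvd_left h2 (Nat.Coprime.mul_left h.cop hc)
  have h4 := h.card_dvd_A h3
  have h5 : A = A ⊔ R :=
    Subgroup.eq_of_le_of_card_ge le_sup_left (Nat.le_of_dvd Nat.card_pos h4)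
  exact le_sup_right.trans h5.ge

/-- Normal subgroups of order prime to `|B|` of a factorized subgroup lie in `A`. -/
theorem le_A_of_fac (h : Cfg A B) {M N : Subgroup G}
    (hfac : ∀ g ∈ M, ∃ a ∈ A ⊓ M, ∃ b ∈ B ⊓ M, g = a * b) (hNM : N ≤ M)
    (hn : M ≤ Subgroup.normalizer (N : Set G)) (hc : (Nat.card N).Coprime (Nat.card B)) :
    N ≤ A := by
  intro n hnN
  obtain ⟨a, ha, b, hb, e⟩ := hfac n (hNM hnN)
  have h1 := Helper91.card_sup_mul_card_inf_of_le_normalizer N (A ⊓ M) (inf_le_right.trans hn)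
  have h2 : Nat.card (N ⊔ (A ⊓ M) : Subgroup G) ∣ Nat.card N * Nat.card (A ⊓ M : Subgroup G) :=
    Dvd.intro _ h1
  have h3 : (Nat.card (N ⊔ (A ⊓ M) : Subgroup G)).Coprime (Nat.card B) :=
    Nat.Coprime.coprime_dvd_left h2 (Nat.Coprime.mul_left hc (h.coprime_of_le_A inf_le_left))
  have hb' : b ∈ N ⊔ (A ⊓ M) := by
    have h4 : b = a⁻¹ * n := by rw [e, inv_mul_cancel_left]
    rw [h4]
    exact Subgroup.mul_mem _ (Subgroup.inv_mem _ (Subgroup.mem_sup_right ha))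
      (Subgroup.mem_sup_left hnN)
  have h4 : orderOf b = 1 :=
    Nat.eq_one_of_dvd_coprimes h3 (Subgroup.orderOf_dvd_natCard _ hb')
      (Subgroup.orderOf_dvd_natCard _ hb.1)
  rw [orderOf_eq_one_iff] at h4
  rw [e, h4, mul_one]; exact ha.1

theorem not_prime_pow_A (h : Cfg A B) {p : ℕ} (hp : p.Prime) (k : ℕ) : Nat.card A ≠ p ^ k := by
  intro hA
  obtain ⟨w, hw, hw1, hwc⟩ := exists_central h.nilB h.B_ne_bot
  have hle : B ≤ Subgroup.centralizer ({w} : Set G) := by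
    intro x hx
    rw [Subgroup.mem_centralizer_iff]
    intro y hy
    rw [Set.mem_singleton_iff] at hy
    rw [hy]; exact (hwc x hx).symm
  have h1 : (Subgroup.centralizer ({w} : Set G)).index ∣ p ^ k := by
    rw [← hA, ← h.symm.index_A]
    exact Subgroup.index_dvd_of_le hle
  obtain ⟨j, -, hj⟩ := (Nat.dvd_prime_pow hp).mp h1
  haveI : Nontrivial G := ⟨⟨1, w, fun e => hw1 e.symm⟩⟩
  haveI : IsSimpleGroup G := ⟨h.simple⟩
  have hprime := Helper3.burnside_prime_power_class p j hp w hw1 hj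
  rw [h.card_eq] at hprime
  rcases Nat.Prime.eq_one_or_self_of_dvd hprime (Nat.card A) (dvd_mul_right _ _) with h2 | h2
  · exact h.A_ne_bot (Subgroup.card_eq_one.mp h2)
  · have h3 : Nat.card B = 1 := by
      have h4 : Nat.card A * Nat.card B = Nat.card A * 1 := by rw [mul_one]; exact h2.symm
      exact Nat.eq_of_mul_eq_mul_left Nat.card_pos h4
    exact h.B_ne_bot (Subgroup.card_eq_one.mp h3)

theorem pcA_ne_bot (h : Cfg A B) (p : ℕ) [Fact p.Prime] : pc A p ≠ ⊥ :=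
  pc_ne_bot h.nilA fun k => h.not_prime_pow_A Fact.out k

theorem val_pc (h : Cfg A B) (p : ℕ) [Fact p.Prime] : Val A (pc A p) :=
  ⟨pc_le A p, h.pcA_ne_bot p, le_normalizer_pc A p⟩

theorem hall_pc (h : Cfg A B) (x : ℕ) [Fact x.Prime] {M : Subgroup G} (hM : pc A x ≤ M) :
    (Nat.card (pc A x)).Coprime ((pc A x).relIndex M) := by
  obtain ⟨k, hk⟩ := card_eq_pow_mul_card_pc (p := x) h.nilA
  have h1 : Nat.card M = Nat.card (pc A x) * (pc A x).relIndex M :=
    Helper1.card_eq_card_mul_relIndex hM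
  have h2 : Nat.card M ∣ Nat.card G := Subgroup.card_subgroup_dvd_card M
  rw [h1, h.card_eq, hk] at h2
  have h3 : (pc A x).relIndex M ∣ x ^ k * Nat.card B := by
    have h4 : Nat.card (pc A x) * (pc A x).relIndex M ∣
        Nat.card (pc A x) * (x ^ k * Nat.card B) := by
      have h5 : Nat.card (pc A x) * (x ^ k * Nat.card B) =
          x ^ k * Nat.card (pc A x) * Nat.card B := by ring
      rw [h5]; exact h2
    exact Nat.dvd_of_mul_dvd_mul_left Nat.card_pos h4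
  refine Nat.Coprime.coprime_dvd_right h3 (Nat.Coprime.mul_right ?_ ?_)
  · exact Nat.Coprime.pow_right k (card_pc_coprime h.nilA)
  · exact h.coprime_of_le_A (pc_le A x)

/-- A valid pair whose product set is a proper subgroup cannot exist (Kegel's lemma). -/
theorem no_prod (h : Cfg A B) {A₀ B₀ : Subgroup G} (hA₀ : Val A A₀) (hB₀ : Val B B₀)
    (S : Subgroup G) (hS : (S : Set G) = (A₀ : Set G) * (B₀ : Set G)) (hne : S ≠ ⊤) : False := by
  obtain ⟨N, hNn, hNt, hN⟩ := Cfsg.Agent.S0566.result A₀ B₀ hA₀.2.1 hB₀.2.1 (fun x => by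
    obtain ⟨a, ha, b, hb, e⟩ := h.fac x
    refine ⟨MulAut.conj a • S, ?_, ?_⟩
    · intro htop
      apply hne
      rw [eq_top_iff]
      intro g _
      have h1 : a * g * a⁻¹ ∈ MulAut.conj a • S := htop ▸ Subgroup.mem_top _
      rw [Helper1.mem_conj_smul] at h1
      simpa [mul_assoc] using h1
    · rw [e, map_mul, mul_smul, conj_smul_eq_of_mem_normalizer (hB₀.2.2 hb)]
      ext y
      rw [SetLike.mem_coe, Helper1.mem_conj_smul, ← SetLike.mem_coe, hS]
      constructor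
      · intro hy
        obtain ⟨u, hu, w, hw, huw⟩ := Set.mem_mul.mp hy
        refine Set.mem_mul.mpr ⟨a * u * a⁻¹, conj_mem_of_mem_normalizer (hA₀.2.2 ha) hu,
          a * w * a⁻¹, ?_, ?_⟩
        · rw [SetLike.mem_coe, Helper1.mem_conj_smul]
          simpa [mul_assoc] using hw
        · calc a * u * a⁻¹ * (a * w * a⁻¹) = a * (u * w) * a⁻¹ := by group
            _ = y := by rw [huw]; group
      · intro hy
        obtain ⟨u, hu, w, hw, huw⟩ := Set.mem_mul.mp hy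
        rw [SetLike.mem_coe, Helper1.mem_conj_smul] at hw
        refine Set.mem_mul.mpr ⟨a⁻¹ * u * a, conj_mem_of_mem_normalizer' (hA₀.2.2 ha) hu,
          a⁻¹ * w * a, hw, ?_⟩
        rw [← huw]; group)
  have hNb : N = ⊥ := h.eq_bot_of_normal hNn hNt
  rcases hN with hN | hN
  · exact hA₀.2.1 (le_bot_iff.mp (hNb ▸ hN))
  · exact hB₀.2.1 (le_bot_iff.mp (hNb ▸ hN))

/-- A valid pair not generating `G` lies in a proper solvable factorized subgroup. -/
theorem exists_fac (h : Cfg A B) {A₀ B₀ : Subgroup G} (hA₀ : Val A A₀) (hB₀ : Val B B₀)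
    (hne : A₀ ⊔ B₀ ≠ ⊤) :
    ∃ M : Subgroup G, M ≠ ⊤ ∧ A₀ ≤ M ∧ B₀ ≤ M ∧ Group.IsSolvable M ∧
      (∀ g ∈ M, ∃ a ∈ A ⊓ M, ∃ b ∈ B ⊓ M, g = a * b) := by
  have hfac : ∀ g ∈ Subgroup.normalizer ((A₀ ⊔ B₀ : Subgroup G) : Set G),
      ∃ a ∈ A ⊓ Subgroup.normalizer ((A₀ ⊔ B₀ : Subgroup G) : Set G),
        ∃ b ∈ B ⊓ Subgroup.normalizer ((A₀ ⊔ B₀ : Subgroup G) : Set G), g = a * b := by
    intro g hg
    obtain ⟨a, ha, b, hb, e⟩ := Cfsg.Agent.S0562.result A B A₀ B₀ h.fac hA₀.1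
      ((Subgroup.normal_subgroupOf_iff_le_normalizer hA₀.1).mpr hA₀.2.2) hB₀.1
      ((Subgroup.normal_subgroupOf_iff_le_normalizer hB₀.1).mpr hB₀.2.2) g hg
    exact ⟨a, ⟨ha.2, ha.1⟩, b, ⟨hb.2, hb.1⟩, e⟩
  have hMt : Subgroup.normalizer ((A₀ ⊔ B₀ : Subgroup G) : Set G) ≠ ⊤ := by
    intro htop
    have h1 : A₀ ⊔ B₀ = ⊥ := h.eq_bot_of_normalizer htop hne
    exact hA₀.2.1 (le_bot_iff.mp (h1 ▸ le_sup_left))
  exact ⟨_, hMt, le_sup_left.trans Subgroup.le_normalizer,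
    le_sup_right.trans Subgroup.le_normalizer, h.IH _ hMt hfac, hfac⟩

theorem gen1 (h : Cfg A B) (x v : ℕ) [Fact x.Prime] [Fact v.Prime] : pc A x ⊔ pc B v = ⊤ := by
  by_contra hne
  obtain ⟨M, hMt, hAM, hBM, hsol, hfac⟩ := h.exists_fac (h.val_pc x) (h.symm.val_pc v) hne
  obtain ⟨S, hSM, hS⟩ := rel_prod (H := A) (K := B) hsol hfac (le_inf (pc_le A x) hAM)
    (inf_le_left.trans (le_normalizer_pc A x)) (le_inf (pc_le B v) hBM)
    (inf_le_left.trans (le_normalizer_pc B v)) (h.hall_pc x hAM) (h.symm.hall_pc v hBM)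
  exact h.no_prod (h.val_pc x) (h.symm.val_pc v) S hS
    (fun htop => hMt (top_le_iff.mp (htop ▸ hSM)))

/-- A nontrivial normal `t`-subgroup of a factorized subgroup lies in `A` or in `B`, and is
normalized by the corresponding `t'`-part. -/
theorem normal_pgroup_cases (h : Cfg A B) {M N : Subgroup G}
    (hfac : ∀ g ∈ M, ∃ a ∈ A ⊓ M, ∃ b ∈ B ⊓ M, g = a * b) (hNM : N ≤ M)
    (hn : M ≤ Subgroup.normalizer (N : Set G)) {t : ℕ} [Fact t.Prime] (hNp : IsPGroup t N)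
    (hNne : N ≠ ⊥) :
    (¬ t ∣ Nat.card B ∧ N ≤ A ∧ pc A t ≤ Subgroup.normalizer (N : Set G)) ∨
      (t ∣ Nat.card B ∧ N ≤ B ∧ pc B t ≤ Subgroup.normalizer (N : Set G)) := by
  have ht : t.Prime := Fact.out
  obtain ⟨k, hk⟩ := IsPGroup.iff_card.mp hNp
  by_cases htB : t ∣ Nat.card B
  · right
    have htA : ¬ t ∣ Nat.card A := fun htA =>
      ht.ne_one (Nat.eq_one_of_dvd_coprimes h.cop htA htB)
    have hNc : (Nat.card N).Coprime (Nat.card A) := by
      rw [hk]; exact Nat.Coprime.pow_left k ((Nat.Prime.coprime_iff_not_dvd ht).mpr htA)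
    have hNB : N ≤ B := h.symm.le_A_of_fac (fac_symm hfac) hNM hn hNc
    exact ⟨htB, hNB, pc_le_normalizer h.nilB hNB hNp⟩
  · left
    have hNc : (Nat.card N).Coprime (Nat.card B) := by
      rw [hk]; exact Nat.Coprime.pow_left k ((Nat.Prime.coprime_iff_not_dvd ht).mpr htB)
    have hNA : N ≤ A := h.le_A_of_fac hfac hNM hn hNc
    exact ⟨htB, hNA, pc_le_normalizer h.nilA hNA hNp⟩

theorem gen2 (h : Cfg A B) {A₀ B₀ : Subgroup G} (hA₀ : Val A A₀) (hB₀ : Val B B₀) (v : ℕ)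
    [Fact v.Prime] (hv : pc B v ≤ B₀) : A₀ ⊔ B₀ = ⊤ := by
  by_contra hne
  obtain ⟨M, hMt, hAM, hBM, hsol, hfac⟩ := h.exists_fac hA₀ hB₀ hne
  have key : ∀ (t : ℕ) [Fact t.Prime] (N : Subgroup G), N ≤ M →
      M ≤ Subgroup.normalizer (N : Set G) → IsPGroup t N → N ≠ ⊥ →
      t ∣ Nat.card B ∧ t = v := by
    intro t _ N hNM hNn hNp hNne
    have h2 : pc B v ≤ Subgroup.normalizer (N : Set G) := (hv.trans hBM).trans hNn
    rcases h.normal_pgroup_cases hfac hNM hNn hNp hNne with ⟨-, hNA, h1⟩ | ⟨htB, hNB, h1⟩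
    · exfalso
      have h3 : Subgroup.normalizer (N : Set G) = ⊤ :=
        top_le_iff.mp ((h.gen1 t v) ▸ sup_le h1 h2)
      exact hNne (h.eq_bot_of_normalizer h3 (fun htop => hMt (top_le_iff.mp (htop ▸ hNM))))
    · refine ⟨htB, ?_⟩
      by_contra htv
      have hBn : B ≤ Subgroup.normalizer (N : Set G) :=
        (le_pc_sup_pc B htv).trans (sup_le h1 h2)
      have hAn : A₀ ≤ Subgroup.normalizer (N : Set G) := hAM.trans hNn
      have hS : ((A₀ ⊔ N : Subgroup G) : Set G) = (A₀ : Set G) * (N : Set G) :=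
        Subgroup.coe_mul_of_left_le_normalizer_right A₀ N hAn
      exact h.no_prod hA₀ ⟨hNB, hNne, hBn⟩ (A₀ ⊔ N) hS
        (fun htop => hMt (top_le_iff.mp (htop ▸ sup_le hAM hNM)))
  obtain ⟨F, hFM, hFn, hFnil, hFc⟩ := exists_fitting M hsol
  have hFprime : ∀ t : ℕ, t.Prime → t ∣ Nat.card F → t ∣ Nat.card B ∧ t = v := by
    intro t ht htF
    haveI : Fact t.Prime := ⟨ht⟩
    exact key t (pp F t) ((pp_le F t).trans hFM) (hFn.trans (normalizer_le_pp F t))
      (isPGroup_pp hFnil) (pp_ne_bot_of_dvd htF)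
  have hFcA : (Nat.card F).Coprime (Nat.card A) := by
    refine Nat.coprime_of_dvd fun t ht htF htA => ?_
    exact ht.ne_one (Nat.eq_one_of_dvd_coprimes h.cop htA (hFprime t ht htF).1)
  have hFB : F ≤ B := h.symm.le_A_of_fac (fac_symm hfac) hFM hFn hFcA
  have hFv : Nat.card F = v ^ (Nat.card F).primeFactorsList.length :=
    Nat.eq_prime_pow_of_unique_prime_dvd Nat.card_pos.ne'
      (fun {d} hd hdvd => (hFprime d hd hdvd).2)
  have hFp : IsPGroup v F := IsPGroup.of_card hFv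
  have hle : pc B v ≤ F := by
    intro w hw
    refine hFc w (hBM (hv hw)) fun y hy => ?_
    exact commute_pp_pc h.nilB (le_pp_of_isPGroup hFB hFp hy) hw
  have h1 : Nat.card (pc B v) ∣ v ^ (Nat.card F).primeFactorsList.length :=
    hFv ▸ Subgroup.card_dvd_of_le hle
  have h2 : Nat.card (pc B v) = 1 :=
    Nat.Coprime.eq_one_of_dvd (Nat.Coprime.pow_right _ (card_pc_coprime h.nilB)) h1
  exact h.symm.pcA_ne_bot v (Subgroup.card_eq_one.mp h2)

/-- **Generation lemma**: every valid pair generates `G`. -/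
theorem gen (h : Cfg A B) {A₀ B₀ : Subgroup G} (hA₀ : Val A A₀) (hB₀ : Val B B₀) :
    A₀ ⊔ B₀ = ⊤ := by
  by_contra hne
  obtain ⟨M, hMt, hAM, hBM, hsol, hfac⟩ := h.exists_fac hA₀ hB₀ hne
  haveI : Nontrivial M :=
    (Subgroup.nontrivial_iff_ne_bot M).mpr (fun hb => hA₀.2.1 (le_bot_iff.mp (hb ▸ hAM)))
  obtain ⟨Q, t, k, hQn, -, ht, hk0, hQc⟩ := Helper1.exists_minNormal_pGroup M
  haveI : Fact t.Prime := ⟨ht⟩
  have hNM : Q.map M.subtype ≤ M := Subgroup.map_subtype_le _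
  have hNn : M ≤ Subgroup.normalizer ((Q.map M.subtype : Subgroup G) : Set G) := by
    refine Subgroup.le_normalizer_iff.mpr ?_
    rintro m hm _ ⟨y, hy, rfl⟩
    exact ⟨⟨m, hm⟩ * y * ⟨m, hm⟩⁻¹, hQn.conj_mem y hy ⟨m, hm⟩, rfl⟩
  have hNc : Nat.card (Q.map M.subtype : Subgroup G) = t ^ k := by
    rw [Subgroup.card_map_of_injective M.subtype_injective]; exact hQc
  have hNp : IsPGroup t (Q.map M.subtype : Subgroup G) := IsPGroup.of_card hNc
  have hNne : (Q.map M.subtype : Subgroup G) ≠ ⊥ := by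
    refine (Subgroup.one_lt_card_iff_ne_bot _).mp ?_
    rw [hNc]
    exact Nat.one_lt_pow hk0.ne' ht.one_lt
  have hNt : (Q.map M.subtype : Subgroup G) ≠ ⊤ := fun htop => hMt (top_le_iff.mp (htop ▸ hNM))
  rcases h.normal_pgroup_cases hfac hNM hNn hNp hNne with ⟨-, hNA, h1⟩ | ⟨htB, hNB, h1⟩
  · have h2 : B₀ ≤ Subgroup.normalizer ((Q.map M.subtype : Subgroup G) : Set G) := hBM.trans hNn
    have h3 : Subgroup.normalizer ((Q.map M.subtype : Subgroup G) : Set G) = ⊤ :=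
      top_le_iff.mp ((h.symm.gen2 hB₀ (h.val_pc t) t le_rfl) ▸ sup_le h2 h1)
    exact hNne (h.eq_bot_of_normalizer h3 hNt)
  · have h2 : A₀ ≤ Subgroup.normalizer ((Q.map M.subtype : Subgroup G) : Set G) := hAM.trans hNn
    have h3 : Subgroup.normalizer ((Q.map M.subtype : Subgroup G) : Set G) = ⊤ :=
      top_le_iff.mp ((h.gen2 hA₀ (h.symm.val_pc t) t le_rfl) ▸ sup_le h2 h1)
    exact hNne (h.eq_bot_of_normalizer h3 hNt)

end Cfg

end Cfsg.Agent.Lib.Helper29.WP
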