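import Mathlib
import Cfsg.Agent.Lib.Helper29.WPBasic
import Cfsg.Prelude.Def_HallClasses

/-!
# Wielandt: the `D_π` property from a Hall `π`-subgroup with a nilpotent direct factor

If `G` has a Hall `π`-subgroup `Hs × Ht` with `Hs` a nilpotent `σ`-group and `Ht` a `τ`-group
(`π = σ ∪ τ` disjoint), and the maximal `τ`-subgroups of `G` are conjugate, then every
`π`-subgroup of `G` lies in a conjugate of `Hs × Ht`.
-/

set_option autoImplicit false

namespace Cfsg.Agent.Lib.Helper29.DPi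

open scoped Pointwise
open Cfsg.Agent.Lib.Helper29.WP

universe u

variable {G : Type u} [Group G]

theorem index_conj_smul [Finite G] (g : G) (H : Subgroup G) :
    (MulAut.conj g • H).index = H.index := by
  have h1 := Subgroup.card_mul_index (MulAut.conj g • H)
  have h2 := Subgroup.card_mul_index H
  rw [Helper1.card_conj_smul] at h1
  exact Nat.eq_of_mul_eq_mul_left Nat.card_pos (h1.trans h2.symm)

/-- A subgroup normalizing `C` whose order is prime to the index of a subgroup of `C`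
lies in `C`. -/
theorem le_of_le_normalizer_of_coprime [Finite G] {X C T : Subgroup G} (hXC : X ≤ C)
    (hT : T ≤ Subgroup.normalizer (C : Set G)) (hcop : (Nat.card T).Coprime X.index) :
    T ≤ C := by
  have h1 := Helper91.card_sup_mul_card_inf_of_le_normalizer C T hT
  have h2 : Nat.card (C ⊔ T : Subgroup G) = Nat.card C * C.relIndex (C ⊔ T) :=
    Helper1.card_eq_card_mul_relIndex le_sup_left
  have h3 : C.relIndex (C ⊔ T) ∣ Nat.card T := by
    rw [h2, mul_assoc] at h1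
    have h4 := Nat.eq_of_mul_eq_mul_left Nat.card_pos h1
    exact ⟨_, h4.symm⟩
  have h5 : C.relIndex (C ⊔ T) ∣ X.index := by
    have h6 : C.relIndex (C ⊔ T) ∣ C.index :=
      ⟨_, (Subgroup.relIndex_mul_index le_sup_left).symm⟩
    exact h6.trans (Subgroup.index_dvd_of_le hXC)
  have h7 : C.relIndex (C ⊔ T) = 1 := Nat.eq_one_of_dvd_coprimes hcop h3 h5
  exact le_sup_right.trans (Subgroup.relIndex_eq_one.mp h7)

theorem normalizer_le_normalizer_centralizer (S : Subgroup G) :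
    Subgroup.normalizer (S : Set G) ≤
      Subgroup.normalizer ((Subgroup.centralizer (S : Set G) : Subgroup G) : Set G) := by
  refine Subgroup.le_normalizer_iff.mpr fun g hg y hy => ?_
  rw [Subgroup.mem_centralizer_iff] at hy ⊢
  intro q hq
  have h1 := hy _ (conj_mem_of_mem_normalizer' hg hq)
  calc q * (g * y * g⁻¹) = g * ((g⁻¹ * q * g) * y) * g⁻¹ := by group
    _ = g * (y * (g⁻¹ * q * g)) * g⁻¹ := by rw [h1]
    _ = g * y * g⁻¹ * q := by group

theorem conj_smul_le_centralizer {A B : Subgroup G}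
    (hcomm : ∀ a ∈ A, ∀ b ∈ B, a * b = b * a) (g : G) {U : Subgroup G}
    (hU : U ≤ MulAut.conj g • A) : MulAut.conj g • B ≤ Subgroup.centralizer (U : Set G) := by
  intro y hy
  rw [Helper1.mem_conj_smul] at hy
  rw [Subgroup.mem_centralizer_iff]
  intro q hq
  have hq' := hU hq
  rw [Helper1.mem_conj_smul] at hq'
  have h1 := hcomm _ hq' _ hy
  calc q * y = g * ((g⁻¹ * q * g) * (g⁻¹ * y * g)) * g⁻¹ := by group
    _ = g * ((g⁻¹ * y * g) * (g⁻¹ * q * g)) * g⁻¹ := by rw [h1]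
    _ = y * q := by group

theorem le_centralizer_of_le_normalizer [Finite G] {A B U V : Subgroup G}
    (hcomm : ∀ a ∈ A, ∀ b ∈ B, a * b = b * a) {g : G} (hU : U ≤ MulAut.conj g • A)
    (hV : V ≤ Subgroup.normalizer (U : Set G)) (hcop : (Nat.card V).Coprime B.index) :
    V ≤ Subgroup.centralizer (U : Set G) :=
  le_of_le_normalizer_of_coprime (conj_smul_le_centralizer hcomm g hU)
    (hV.trans (normalizer_le_normalizer_centralizer U)) (by rw [index_conj_smul]; exact hcop)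

/-- The standing hypotheses. -/
structure Ctx (σ τ : Set ℕ) (Hs Ht : Subgroup G) : Prop where
  disj : ∀ p : ℕ, p ∈ σ → p ∈ τ → False
  sub_s : IsPiSubgroup σ Hs
  sub_t : IsPiSubgroup τ Ht
  nil : Group.IsNilpotent Hs
  comm : ∀ a ∈ Hs, ∀ b ∈ Ht, a * b = b * a
  hall_s : ∀ p : ℕ, p.Prime → p ∈ σ → ¬ p ∣ Hs.index
  hall_t : ∀ p : ℕ, p.Prime → p ∈ τ → ¬ p ∣ Ht.index
  conj_t : ∀ T : Subgroup G, IsPiSubgroup τ T → ∃ g : G, T ≤ MulAut.conj g • Ht

/-- The subgroup generated by the `τ`-elements of `K`. -/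
def tpart (τ : Set ℕ) (K : Subgroup G) : Subgroup G :=
  Subgroup.closure {x | x ∈ K ∧ ∀ p : ℕ, p.Prime → p ∣ orderOf x → p ∈ τ}

theorem tpart_le (τ : Set ℕ) (K : Subgroup G) : tpart τ K ≤ K :=
  (Subgroup.closure_le K).mpr fun _ hx => hx.1

theorem le_normalizer_tpart (τ : Set ℕ) (K : Subgroup G) :
    K ≤ Subgroup.normalizer (tpart τ K : Set G) :=
  Subgroup.le_normalizer_iff.mpr fun g hg y hy =>
    conj_mem_closure_of (fun n => ∀ p : ℕ, p.Prime → p ∣ n → p ∈ τ)
      (fun y hy => K.mul_mem (K.mul_mem hg hy) (K.inv_mem hg)) y hy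

theorem not_dvd_index_tpart [Finite G] {τ : Set ℕ} {K : Subgroup G} {p : ℕ} (hp : p.Prime)
    (hpτ : p ∈ τ) : ¬ p ∣ ((tpart τ K).subgroupOf K).index := by
  haveI : Fact p.Prime := ⟨hp⟩
  have P : Sylow p K := default
  have hP : (P : Subgroup K) ≤ (tpart τ K).subgroupOf K := by
    intro x hx
    rw [Subgroup.mem_subgroupOf]
    refine Subgroup.subset_closure ⟨x.2, ?_⟩
    intro q hq hqd
    obtain ⟨j, hj⟩ := P.2 ⟨x, hx⟩
    have hj' : ((x : K) : G) ^ p ^ j = 1 := by
      have h1 := congrArg (fun y : (P : Subgroup K) => ((y : K) : G)) hj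
      simpa using h1
    have h2 : q ∣ p ^ j := hqd.trans (orderOf_dvd_of_pow_eq_one hj')
    have h3 := (Nat.prime_dvd_prime_iff_eq hq hp).mp (hq.dvd_of_dvd_pow h2)
    rw [h3]; exact hpτ
  intro hd
  exact P.not_dvd_index (hd.trans (Subgroup.index_dvd_of_le hP))

namespace Ctx

variable [Finite G] {σ τ : Set ℕ} {Hs Ht : Subgroup G}

theorem coprime_s (c : Ctx σ τ Hs Ht) {S : Subgroup G} (hS : IsPiSubgroup σ S) :
    (Nat.card S).Coprime Hs.index :=
  Nat.coprime_of_dvd fun p hp h1 h2 => c.hall_s p hp (hS p hp h1) h2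

theorem coprime_t (c : Ctx σ τ Hs Ht) {T : Subgroup G} (hT : IsPiSubgroup τ T) :
    (Nat.card T).Coprime Ht.index :=
  Nat.coprime_of_dvd fun p hp h1 h2 => c.hall_t p hp (hT p hp h1) h2

theorem dvd_card_s (c : Ctx σ τ Hs Ht) {S : Subgroup G} (hS : IsPiSubgroup σ S) :
    ∀ p : ℕ, p.Prime → p ∣ Nat.card S → p ∣ Nat.card Hs := by
  intro p hp hpd
  have h1 : p ∣ Nat.card Hs * Hs.index := by
    rw [Subgroup.card_mul_index]
    exact hpd.trans (Subgroup.card_subgroup_dvd_card S)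
  exact (hp.dvd_mul.mp h1).resolve_right (c.hall_s p hp (hS p hp hpd))

theorem conj_s (c : Ctx σ τ Hs Ht) {S : Subgroup G} (hS : IsPiSubgroup σ S) :
    ∃ g : G, S ≤ MulAut.conj g • Hs :=
  Helper91.wielandt Hs S c.nil (c.coprime_s c.sub_s) (c.dvd_card_s hS)

theorem nil_conj (c : Ctx σ τ Hs Ht) (g : G) :
    Group.IsNilpotent (MulAut.conj g • Hs : Subgroup G) :=
  haveI := c.nil
  Group.nilpotent_of_mulEquiv (Subgroup.equivSMul (MulAut.conj g) Hs)

theorem nil_s (c : Ctx σ τ Hs Ht) {S : Subgroup G} (hS : IsPiSubgroup σ S) :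
    Group.IsNilpotent S := by
  obtain ⟨g, hg⟩ := c.conj_s hS
  exact Helper91.isNilpotent_of_le (c.nil_conj g) hg

/-- A `τ`-subgroup normalizing a `σ`-subgroup centralizes it. -/
theorem cent_s (c : Ctx σ τ Hs Ht) {S T : Subgroup G} (hS : IsPiSubgroup σ S)
    (hT : IsPiSubgroup τ T) (hTS : T ≤ Subgroup.normalizer (S : Set G)) :
    T ≤ Subgroup.centralizer (S : Set G) := by
  obtain ⟨g, hg⟩ := c.conj_s hS
  exact le_centralizer_of_le_normalizer c.comm hg hTS (c.coprime_t hT)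

/-- A `σ`-subgroup normalizing a `τ`-subgroup centralizes it. -/
theorem cent_t (c : Ctx σ τ Hs Ht) {S T : Subgroup G} (hS : IsPiSubgroup σ S)
    (hT : IsPiSubgroup τ T) (hST : S ≤ Subgroup.normalizer (T : Set G)) :
    S ≤ Subgroup.centralizer (T : Set G) := by
  obtain ⟨g, hg⟩ := c.conj_t T hT
  exact le_centralizer_of_le_normalizer (fun a ha b hb => (c.comm b hb a ha).symm) hg hST
    (c.coprime_s hS)

/-- A `π`-element of order prime to `s ∈ σ` normalizing an `s`-subgroup centralizes it. -/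
theorem cent_of_norm (c : Ctx σ τ Hs Ht) {s : ℕ} [Fact s.Prime] (hsσ : s ∈ σ) {Q : Subgroup G}
    (hQ : IsPGroup s Q) :
    ∀ (n : ℕ) (g : G), orderOf g = n → g ∈ Subgroup.normalizer (Q : Set G) →
      (∀ p : ℕ, p.Prime → p ∣ orderOf g → p ∈ σ ∨ p ∈ τ) → (orderOf g).Coprime s →
      g ∈ Subgroup.centralizer (Q : Set G) := by
  have hs : s.Prime := Fact.out
  have hQσ : IsPiSubgroup σ Q := by
    intro p hp hpd
    obtain ⟨j, hj⟩ := IsPGroup.iff_card.mp hQ
    rw [hj] at hpd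
    have h0 := (Nat.prime_dvd_prime_iff_eq hp hs).mp (hp.dvd_of_dvd_pow hpd)
    rw [h0]; exact hsσ
  intro n
  induction n using Nat.strong_induction_on with
  | _ n ih =>
  intro g hn hgN hgπ hgs
  by_cases h1 : n = 1
  · have h0 : g = 1 := orderOf_eq_one_iff.mp (hn.trans h1)
    rw [h0]; exact Subgroup.one_mem _
  obtain ⟨r, hr, hrn⟩ := Nat.exists_prime_and_dvd h1
  haveI : Fact r.Prime := ⟨hr⟩
  have hrg : r ∣ orderOf g := hn ▸ hrn
  obtain ⟨u, v, huv, hu, hv, huc, k, hvk⟩ := exists_decomp_elt r g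
  have hzN : Subgroup.zpowers g ≤ Subgroup.normalizer (Q : Set G) :=
    Subgroup.zpowers_le.mpr hgN
  have hud : orderOf u ∣ orderOf g := orderOf_dvd_of_mem_zpowers hu
  have huC : u ∈ Subgroup.centralizer (Q : Set G) := by
    have hlt : orderOf u < n := by
      have hle : orderOf u ≤ n := hn ▸ Nat.le_of_dvd (orderOf_pos g) hud
      refine lt_of_le_of_ne hle fun e => ?_
      have h0 : r ∣ orderOf u := e ▸ hrn
      exact hr.ne_one (Nat.eq_one_of_dvd_coprimes huc h0 dvd_rfl)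
    exact ih (orderOf u) hlt u rfl (hzN hu) (fun p hp hpd => hgπ p hp (hpd.trans hud))
      (Nat.Coprime.coprime_dvd_left hud hgs)
  have hvC : v ∈ Subgroup.centralizer (Q : Set G) := by
    have hvN : Subgroup.zpowers v ≤ Subgroup.normalizer (Q : Set G) :=
      Subgroup.zpowers_le.mpr (hzN hv)
    have hcardV : Nat.card (Subgroup.zpowers v) = r ^ k := by rw [Nat.card_zpowers, hvk]
    have hrs : r ≠ s := by
      rintro rfl
      exact hr.ne_one (Nat.eq_one_of_dvd_coprimes hgs hrg dvd_rfl)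
    have hVsub : ∀ ρ : Set ℕ, r ∈ ρ → IsPiSubgroup ρ (Subgroup.zpowers v) := by
      intro ρ hρ p hp hpd
      rw [hcardV] at hpd
      have h0 := (Nat.prime_dvd_prime_iff_eq hp hr).mp (hp.dvd_of_dvd_pow hpd)
      rw [h0]; exact hρ
    rcases hgπ r hr hrg with hrσ | hrτ
    · have hXσ : IsPiSubgroup σ (Q ⊔ Subgroup.zpowers v) := by
        intro p hp hpd
        have h2 := Helper91.card_sup_mul_card_inf_of_le_normalizer Q (Subgroup.zpowers v) hvN
        have h3 : p ∣ Nat.card Q * Nat.card (Subgroup.zpowers v) := by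
          rw [← h2]; exact Dvd.dvd.mul_right hpd _
        rcases hp.dvd_mul.mp h3 with h4 | h4
        · exact hQσ p hp h4
        · exact hVsub σ hrσ p hp h4
      have hXnil := c.nil_s hXσ
      have hQpp : Q ≤ pp (Q ⊔ Subgroup.zpowers v) s := le_pp_of_isPGroup le_sup_left hQ
      have hvX : v ∈ Q ⊔ Subgroup.zpowers v :=
        (le_sup_right : Subgroup.zpowers v ≤ Q ⊔ Subgroup.zpowers v) (Subgroup.mem_zpowers v)
      have hvpc : v ∈ pc (Q ⊔ Subgroup.zpowers v) s := mem_pc hvX (by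
        rw [hvk]; exact Nat.Coprime.pow_left k ((Nat.coprime_primes hr hs).mpr hrs))
      rw [Subgroup.mem_centralizer_iff]
      intro q hq
      exact commute_pp_pc hXnil (hQpp hq) hvpc
    · exact c.cent_s hQσ (hVsub τ hrτ) hvN (Subgroup.mem_zpowers v)
  rw [huv]
  exact Subgroup.mul_mem _ huC hvC

/-- The Frobenius condition for `s ∈ σ` in a `π`-subgroup. -/
theorem frob (c : Ctx σ τ Hs Ht) {K : Subgroup G} (hK : IsPiSubgroup (σ ∪ τ) K) {s : ℕ}
    [Fact s.Prime] (hsσ : s ∈ σ) : Helper54.FrobeniusCondition s K := by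
  intro Q hQ g hg hgp
  have h1 : (g : G) ∈ Subgroup.normalizer ((Q.map K.subtype : Subgroup G) : Set G) := by
    rw [Subgroup.mem_normalizer_iff]
    intro x
    constructor
    · rintro ⟨q, hq, rfl⟩
      exact ⟨g * q * g⁻¹, (Subgroup.mem_normalizer_iff.mp hg q).mp hq, by simp⟩
    · rintro ⟨q, hq, hqx⟩
      refine ⟨g⁻¹ * q * g, (Subgroup.mem_normalizer_iff''.mp hg q).mp hq, ?_⟩
      have h0 : (q : G) = g * x * g⁻¹ := hqx
      simp [h0, mul_assoc]
  have h2 := c.cent_of_norm hsσ (hQ.map K.subtype) _ (g : G) rfl h1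
    (fun p hp hpd => (Set.mem_union p σ τ).mp (hK p hp (by
      rw [Subgroup.orderOf_coe] at hpd
      exact hpd.trans (orderOf_dvd_natCard g))))
    (by rwa [Subgroup.orderOf_coe])
  rw [Subgroup.mem_centralizer_iff] at h2 ⊢
  intro q hq
  have h3 := h2 (q : G) ⟨q, hq, rfl⟩
  exact Subtype.ext (by simpa using h3)

/-- The `τ`-part of a `π`-subgroup is a `τ`-group. -/
theorem tpart_sub (c : Ctx σ τ Hs Ht) {K : Subgroup G} (hK : IsPiSubgroup (σ ∪ τ) K) :
    IsPiSubgroup τ (tpart τ K) := by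
  intro p hp hpd
  by_contra hpτ
  haveI : Fact p.Prime := ⟨hp⟩
  have hpσ : p ∈ σ := ((Set.mem_union p σ τ).mp
    (hK p hp (hpd.trans (Subgroup.card_dvd_of_le (tpart_le τ K))))).resolve_right hpτ
  obtain ⟨N, hN⟩ := Helper54.exists_isNormalPComplement_of_frobeniusCondition (c.frob hK hpσ)
  have hle : tpart τ K ≤ N.map K.subtype := by
    refine (Subgroup.closure_le _).mpr ?_
    rintro x ⟨hxK, hx⟩
    refine ⟨⟨x, hxK⟩, hN.mem_of_coprime ?_, rfl⟩
    rw [Subgroup.orderOf_mk]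
    exact (Nat.Coprime.symm ((Nat.Prime.coprime_iff_not_dvd hp).mpr fun h => hpτ (hx p hp h)))
  have h1 : p ∣ Nat.card (N.map K.subtype) := hpd.trans (Subgroup.card_dvd_of_le hle)
  rw [Subgroup.card_map_of_injective K.subtype_injective] at h1
  exact hp.ne_one (Nat.eq_one_of_dvd_coprimes hN.2.1 h1 dvd_rfl)

/-- A `σ`-complement to the `τ`-part of a `π`-subgroup. -/
theorem exists_compl (c : Ctx σ τ Hs Ht) {K : Subgroup G} (hK : IsPiSubgroup (σ ∪ τ) K) :
    ∃ S : Subgroup G, IsPiSubgroup σ S ∧ S ≤ K ∧ K ≤ tpart τ K ⊔ S := by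
  have hnorm : ((tpart τ K).subgroupOf K).Normal :=
    Subgroup.normal_subgroupOf_of_le_normalizer (le_normalizer_tpart τ K)
  have hcardN : Nat.card ((tpart τ K).subgroupOf K) = Nat.card (tpart τ K) :=
    Helper1.card_subgroupOf_of_le (tpart_le τ K)
  have hcop : (Nat.card ((tpart τ K).subgroupOf K)).Coprime
      ((tpart τ K).subgroupOf K).index := by
    refine Nat.coprime_of_dvd fun p hp h1 h2 => ?_
    rw [hcardN] at h1
    exact not_dvd_index_tpart hp (c.tpart_sub hK p hp h1) h2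
  obtain ⟨S', hS'⟩ := Subgroup.exists_right_complement'_of_coprime hcop
  refine ⟨S'.map K.subtype, ?_, ?_, ?_⟩
  · intro p hp hpd
    rw [Subgroup.card_map_of_injective K.subtype_injective] at hpd
    have h1 : p ∣ ((tpart τ K).subgroupOf K).index := by
      rw [hS'.symm.index_eq_card]; exact hpd
    have h2 : p ∈ σ ∪ τ := hK p hp (hpd.trans (Subgroup.card_subgroup_dvd_card S'))
    rcases (Set.mem_union p σ τ).mp h2 with h3 | h3
    · exact h3
    · exact absurd h1 (not_dvd_index_tpart hp h3)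
  · rintro _ ⟨x, -, rfl⟩
    exact x.2
  · intro k hk
    have h1 : (⟨k, hk⟩ : K) ∈ (tpart τ K).subgroupOf K ⊔ S' := by
      rw [hS'.sup_eq_top]; exact Subgroup.mem_top _
    have h2 : k ∈ ((tpart τ K).subgroupOf K ⊔ S').map K.subtype := ⟨⟨k, hk⟩, h1, rfl⟩
    rw [Subgroup.map_sup, Subgroup.subgroupOf_map_subtype] at h2
    have h3 : tpart τ K ⊓ K ⊔ S'.map K.subtype ≤ tpart τ K ⊔ S'.map K.subtype :=
      sup_le_sup_right inf_le_left _
    exact h3 h2

/-- Every `π`-subgroup lies in a conjugate of `Hs ⊔ Ht`. -/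
theorem exists_conj_le (c : Ctx σ τ Hs Ht) {K : Subgroup G} (hK : IsPiSubgroup (σ ∪ τ) K) :
    ∃ x : G, K ≤ MulAut.conj x • (Hs ⊔ Ht) := by
  obtain ⟨S, hSσ, hSK, hKle⟩ := c.exists_compl hK
  have hNτ := c.tpart_sub hK
  have hSN : S ≤ Subgroup.normalizer (tpart τ K : Set G) :=
    hSK.trans (le_normalizer_tpart τ K)
  have hSC : S ≤ Subgroup.centralizer (tpart τ K : Set G) := c.cent_t hSσ hNτ hSN
  obtain ⟨g, hg⟩ := c.conj_t _ hNτ
  have hHsC : MulAut.conj g • Hs ≤ Subgroup.centralizer (tpart τ K : Set G) :=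
    conj_smul_le_centralizer (fun a ha b hb => (c.comm b hb a ha).symm) g hg
  have hHall : (Nat.card (MulAut.conj g • Hs : Subgroup G)).Coprime
      ((MulAut.conj g • Hs).relIndex (Subgroup.centralizer (tpart τ K : Set G))) := by
    rw [Helper1.card_conj_smul]
    have h1 : (MulAut.conj g • Hs).relIndex (Subgroup.centralizer (tpart τ K : Set G)) ∣
        Hs.index := by
      rw [← index_conj_smul g Hs]
      exact ⟨_, (Subgroup.relIndex_mul_index hHsC).symm⟩
    exact Nat.Coprime.coprime_dvd_right h1 (c.coprime_s c.sub_s)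
  obtain ⟨x, hxC, hx⟩ := rel_wielandt hHsC (c.nil_conj g) hHall hSC (fun p hp hpd => by
    rw [Helper1.card_conj_smul]; exact c.dvd_card_s hSσ p hp hpd)
  refine ⟨x * g, ?_⟩
  rw [map_mul, mul_smul, Subgroup.smul_sup, Subgroup.smul_sup]
  refine hKle.trans (sup_le ?_ (hx.trans le_sup_left))
  refine le_trans ?_ le_sup_right
  intro n hn
  rw [Helper1.mem_conj_smul]
  have h1 : n * x = x * n := Subgroup.mem_centralizer_iff.mp hxC n hn
  have h2 : x⁻¹ * n * x = n := by rw [mul_assoc, h1]; group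
  rw [h2]; exact hg hn

end Ctx

/-- **Wielandt.** `D_π` from a Hall `π`-subgroup with a nilpotent direct factor. -/
theorem dpi [Finite G] (σ τ : Set ℕ) (hd : Disjoint σ τ) (H Hs Ht : Subgroup G)
    (hH : IsPiHall (σ ∪ τ) H) (hs : IsPiSubgroup σ Hs) (ht : IsPiSubgroup τ Ht)
    (hsn : Group.IsNilpotent Hs) (hjoin : Hs ⊔ Ht = H)
    (hcomm : ∀ a ∈ Hs, ∀ b ∈ Ht, a * b = b * a) (hD : IsDPiGroup τ G) :
    IsDPiGroup (σ ∪ τ) G := by
  have hdisj : ∀ p : ℕ, p ∈ σ → p ∈ τ → False := fun p h1 h2 => Set.disjoint_left.mp hd h1 h2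
  have hHtN : Ht ≤ Subgroup.normalizer (Hs : Set G) := by
    refine le_trans ?_ (Subgroup.centralizer_le_normalizer _)
    intro b hb
    rw [Subgroup.mem_centralizer_iff]
    intro a ha
    exact hcomm a ha b hb
  have hcard := Helper91.card_sup_mul_card_inf_of_le_normalizer Hs Ht hHtN
  have hinf : Nat.card (Hs ⊓ Ht : Subgroup G) = 1 := by
    rw [Nat.eq_one_iff_not_exists_prime_dvd]
    intro p hp hpd
    exact hdisj p (hs p hp (hpd.trans (Subgroup.card_dvd_of_le inf_le_left)))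
      (ht p hp (hpd.trans (Subgroup.card_dvd_of_le inf_le_right)))
  rw [hinf, mul_one, hjoin] at hcard
  have hG := Subgroup.card_mul_index H
  have hGs := Subgroup.card_mul_index Hs
  have hGt := Subgroup.card_mul_index Ht
  have hidx_s : Hs.index = Nat.card Ht * H.index := by
    have h0 : Nat.card Hs * Hs.index = Nat.card Hs * (Nat.card Ht * H.index) := by
      rw [hGs, ← hG, hcard, mul_assoc]
    exact Nat.eq_of_mul_eq_mul_left Nat.card_pos h0
  have hidx_t : Ht.index = Nat.card Hs * H.index := by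
    have h0 : Nat.card Ht * Ht.index = Nat.card Ht * (Nat.card Hs * H.index) := by
      rw [hGt, ← hG, hcard]; ring
    exact Nat.eq_of_mul_eq_mul_left Nat.card_pos h0
  have hall_s : ∀ p : ℕ, p.Prime → p ∈ σ → ¬ p ∣ Hs.index := by
    intro p hp hpσ hpd
    rw [hidx_s] at hpd
    rcases hp.dvd_mul.mp hpd with h | h
    · exact hdisj p hpσ (ht p hp h)
    · exact hH.2 p hp (Or.inl hpσ) h
  have hall_t : ∀ p : ℕ, p.Prime → p ∈ τ → ¬ p ∣ Ht.index := by
    intro p hp hpτ hpd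
    rw [hidx_t] at hpd
    rcases hp.dvd_mul.mp hpd with h | h
    · exact hdisj p (hs p hp h) hpτ
    · exact hH.2 p hp (Or.inr hpτ) h
  have hmaxT : Maximal (IsPiSubgroup τ) Ht := by
    refine ⟨ht, fun Y hY hle => ?_⟩
    have h1 : Ht.relIndex Y = 1 := by
      rw [Nat.eq_one_iff_not_exists_prime_dvd]
      intro p hp hpd
      have h2 : p ∣ Nat.card Y := by
        rw [Helper1.card_eq_card_mul_relIndex hle]; exact Dvd.dvd.mul_left hpd _
      have h3 : p ∣ Ht.index := by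
        rw [← Subgroup.relIndex_mul_index hle]; exact Dvd.dvd.mul_right hpd _
      exact hall_t p hp (hY p hp h2) h3
    exact Subgroup.relIndex_eq_one.mp h1
  have hconjT : ∀ T : Subgroup G, IsPiSubgroup τ T → ∃ g : G, T ≤ MulAut.conj g • Ht := by
    intro T hT
    obtain ⟨M, hTM, hM⟩ := Finite.exists_le_maximal (p := IsPiSubgroup τ) hT
    obtain ⟨g, hg⟩ := hD Ht M hmaxT hM
    exact ⟨g, hTM.trans (le_of_eq hg)⟩
  have c : Ctx σ τ Hs Ht := ⟨hdisj, hs, ht, hsn, hcomm, hall_s, hall_t, hconjT⟩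
  have key : ∀ M : Subgroup G, Maximal (IsPiSubgroup (σ ∪ τ)) M →
      ∃ x : G, M = MulAut.conj x • H := by
    intro M hM
    obtain ⟨x, hx⟩ := c.exists_conj_le hM.1
    rw [hjoin] at hx
    have h1 : IsPiSubgroup (σ ∪ τ) (MulAut.conj x • H : Subgroup G) := by
      intro p hp hpd
      rw [Helper1.card_conj_smul] at hpd
      exact hH.1 p hp hpd
    exact ⟨x, le_antisymm hx (hM.2 h1 hx)⟩
  intro M₁ M₂ h₁ h₂
  obtain ⟨x₁, e₁⟩ := key M₁ h₁
  obtain ⟨x₂, e₂⟩ := key M₂ h₂
  refine ⟨x₂ * x₁⁻¹, ?_⟩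
  have h0 : MulAut.conj (x₂ * x₁⁻¹) • MulAut.conj x₁ • H = MulAut.conj x₂ • H := by
    rw [← mul_smul, ← map_mul, inv_mul_cancel_right]
  show M₂ = MulAut.conj (x₂ * x₁⁻¹) • M₁
  rw [e₁, e₂, h0]

end Cfsg.Agent.Lib.Helper29.DPi
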