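import Mathlib
import Cfsg.Agent.S0016
import Cfsg.Agent.S0041
import Cfsg.Agent.S0144
import Cfsg.Agent.S3779
import Cfsg.Agent.Lib.Helper55.Cores
import Cfsg.Agent.Lib.Helper29.Ord1234A

/-!
# Helper29: finite groups whose element orders are exactly `1, 2, 3, 4`

Assembly of the structure theorem (statement S4006).
-/

set_option autoImplicit false

namespace Cfsg.Agent.Lib.Helper29.Ord1234

universe u

section elems
variable {G : Type u} [Group G]

theorem mem_zpowers_three (y : G) (hy : y ^ 3 = 1) (x : G)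
    (hx : x ∈ Subgroup.zpowers y) : x = 1 ∨ x = y ∨ x = y⁻¹ := by
  obtain ⟨k, rfl⟩ := Subgroup.mem_zpowers_iff.1 hx
  have hk : 3 * (k / 3) + k % 3 = k := Int.mul_ediv_add_emod k 3
  have h3 : y ^ (3 : ℤ) = 1 := by rw [← hy]; norm_cast
  have e : y ^ k = y ^ (k % 3) := by
    conv_lhs => rw [← hk]
    rw [zpow_add, zpow_mul, h3, one_zpow, one_mul]
  have h0 := Int.emod_nonneg k (by norm_num : (3 : ℤ) ≠ 0)
  have h1 := Int.emod_lt_of_pos k (by norm_num : (0 : ℤ) < 3)
  have : k % 3 = 0 ∨ k % 3 = 1 ∨ k % 3 = 2 := by omega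
  rcases this with h | h | h <;> rw [e, h]
  · left; simp
  · right; left; simp
  · right; right
    rw [eq_inv_iff_mul_eq_one]
    have : y ^ (2 : ℤ) * y = y ^ (3 : ℤ) := by
      rw [show (3 : ℤ) = 2 + 1 from rfl, zpow_add, zpow_one]
    rw [this, h3]

theorem mem_zpowers_two (y : G) (hy : y ^ 2 = 1) (x : G)
    (hx : x ∈ Subgroup.zpowers y) : x = 1 ∨ x = y := by
  obtain ⟨k, rfl⟩ := Subgroup.mem_zpowers_iff.1 hx
  have hk : 2 * (k / 2) + k % 2 = k := Int.mul_ediv_add_emod k 2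
  have h3 : y ^ (2 : ℤ) = 1 := by rw [← hy]; norm_cast
  have e : y ^ k = y ^ (k % 2) := by
    conv_lhs => rw [← hk]
    rw [zpow_add, zpow_mul, h3, one_zpow, one_mul]
  rcases Int.emod_two_eq_zero_or_one k with h | h <;> rw [e, h]
  · left; simp
  · right; simp

theorem no_comm_23
    (H4 : ∀ g : G, orderOf g = 1 ∨ orderOf g = 2 ∨ orderOf g = 3 ∨ orderOf g = 4)
    (x y : G) (hx : orderOf x = 2) (hy : orderOf y = 3) (hc : Commute x y) : False := by
  have h6 : orderOf (x * y) = 2 * 3 := by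
    have := hc.orderOf_mul_eq_mul_orderOf_of_coprime (by rw [hx, hy]; decide)
    rw [this, hx, hy]
  rcases H4 (x * y) with h | h | h | h <;> omega

theorem no_comm_4
    (H4 : ∀ g : G, orderOf g = 1 ∨ orderOf g = 2 ∨ orderOf g = 3 ∨ orderOf g = 4)
    (n y : G) (hn4 : n ^ 4 = 1) (hn1 : n ≠ 1) (hy : orderOf y = 3)
    (hc : Commute n y) : False := by
  by_cases h2 : n ^ 2 = 1
  · exact no_comm_23 H4 n y (orderOf_eq_prime h2 hn1) hy hc
  · have h22 : (n ^ 2) ^ 2 = 1 := by rw [← pow_mul]; exact hn4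
    exact no_comm_23 H4 (n ^ 2) y (orderOf_eq_prime h22 h2) hy (hc.pow_left 2)

theorem pow_four_of_two_pow
    (H4 : ∀ g : G, orderOf g = 1 ∨ orderOf g = 2 ∨ orderOf g = 3 ∨ orderOf g = 4)
    (n : G) (k : ℕ) (hn : n ^ (2 ^ k) = 1) : n ^ 4 = 1 := by
  have hd : orderOf n ∣ 2 ^ k := orderOf_dvd_of_pow_eq_one hn
  rcases H4 n with h | h | h | h
  · rw [orderOf_eq_one_iff] at h; rw [h, one_pow]
  · have : n ^ 2 = 1 := by rw [← h]; exact pow_orderOf_eq_one n
    rw [show 4 = 2 * 2 from rfl, pow_mul, this, one_pow]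
  · exfalso
    rw [h] at hd
    have := Nat.Prime.dvd_of_dvd_pow Nat.prime_three hd
    omega
  · rw [← h]; exact pow_orderOf_eq_one n

theorem pow_three_of_three_pow
    (H4 : ∀ g : G, orderOf g = 1 ∨ orderOf g = 2 ∨ orderOf g = 3 ∨ orderOf g = 4)
    (n : G) (k : ℕ) (hn : n ^ (3 ^ k) = 1) : n ^ 3 = 1 := by
  have hd : orderOf n ∣ 3 ^ k := orderOf_dvd_of_pow_eq_one hn
  rcases H4 n with h | h | h | h
  · rw [orderOf_eq_one_iff] at h; rw [h, one_pow]
  · exfalso
    rw [h] at hd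
    have := Nat.Prime.dvd_of_dvd_pow Nat.prime_two hd
    omega
  · rw [← h]; exact pow_orderOf_eq_one n
  · exfalso
    rw [h] at hd
    have h2 : 2 ∣ 3 ^ k := dvd_trans (by decide : 2 ∣ 4) hd
    have := Nat.Prime.dvd_of_dvd_pow Nat.prime_two h2
    omega

theorem pow_four_of_ne_three
    (H4 : ∀ g : G, orderOf g = 1 ∨ orderOf g = 2 ∨ orderOf g = 3 ∨ orderOf g = 4)
    (g : G) (h3 : orderOf g ≠ 3) : g ^ 4 = 1 := by
  rcases H4 g with h' | h' | h' | h'
  · rw [orderOf_eq_one_iff] at h'; rw [h', one_pow]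
  · have : g ^ 2 = 1 := by rw [← h']; exact pow_orderOf_eq_one g
    rw [show 4 = 2 * 2 from rfl, pow_mul, this, one_pow]
  · exact absurd h' h3
  · rw [← h']; exact pow_orderOf_eq_one g

theorem card_two_three [Finite G]
    (H4 : ∀ g : G, orderOf g = 1 ∨ orderOf g = 2 ∨ orderOf g = 3 ∨ orderOf g = 4) :
    ∃ a b : ℕ, Nat.card G = 2 ^ a * 3 ^ b := by
  have hp : ∀ p : ℕ, p.Prime → p ∣ Nat.card G → p = 2 ∨ p = 3 := by
    intro p hp hd
    haveI : Fact p.Prime := ⟨hp⟩
    obtain ⟨g, hg⟩ := exists_prime_orderOf_dvd_card' p hd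
    rcases H4 g with h1 | h1 | h1 | h1 <;> rw [hg] at h1
    · exact absurd h1 hp.one_lt.ne'
    · exact Or.inl h1
    · exact Or.inr h1
    · exact absurd (h1 ▸ hp) (by decide)
  have hpos : Nat.card G ≠ 0 := Nat.card_pos.ne'
  refine ⟨(Nat.card G).factorization 2,
    (ordCompl[2] (Nat.card G)).primeFactorsList.length, ?_⟩
  have h1 := Nat.ordProj_mul_ordCompl_eq_self (Nat.card G) 2
  have h2 : ordCompl[2] (Nat.card G) =
      3 ^ (ordCompl[2] (Nat.card G)).primeFactorsList.length := by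
    apply Nat.eq_prime_pow_of_unique_prime_dvd
    · exact (Nat.ordCompl_pos 2 hpos).ne'
    · intro q hq hqd
      rcases hp q hq (dvd_trans hqd (Nat.ordCompl_dvd _ _)) with h | h
      · exfalso; rw [h] at hqd; exact Nat.not_dvd_ordCompl Nat.prime_two hpos hqd
      · exact h
  rw [← h2]; exact h1.symm


theorem caseI [Finite G]
    (H4 : ∀ g : G, orderOf g = 1 ∨ orderOf g = 2 ∨ orderOf g = 3 ∨ orderOf g = 4)
    (g4 : G) (hg4 : orderOf g4 = 4)
    (N : Subgroup G) [hnorm : N.Normal] (hN3 : IsPGroup 3 N)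
    (hCN : Subgroup.centralizer (N : Set G) ≤ N) :
    Cfsg.IsElementaryAbelian 3 N ∧
      ((IsCyclic (G ⧸ N) ∧ N.index = 4) ∨ Nonempty (G ⧸ N ≃* QuaternionGroup 2)) := by
  have hN3' : ∀ n ∈ N, n ^ 3 = 1 := by
    intro n hn
    obtain ⟨k, hk⟩ := hN3 ⟨n, hn⟩
    have : n ^ (3 ^ k) = 1 := by simpa using congrArg Subtype.val hk
    exact pow_three_of_three_pow H4 n k this
  -- involutions invert N
  have hinv : ∀ t : G, orderOf t = 2 → ∀ n ∈ N, t * n * t⁻¹ = n⁻¹ := by
    intro t ht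
    have ht2 : t ^ 2 = 1 := by rw [← ht]; exact pow_orderOf_eq_one t
    have hfpf : ∀ n ∈ N, t * n * t⁻¹ = n → n = 1 := by
      intro n hn hfix
      by_contra hn1
      have hc : Commute t n := by
        have : t * n = n * t := by
          calc t * n = (t * n * t⁻¹) * t := by group
            _ = n * t := by rw [hfix]
        exact this
      exact no_comm_23 H4 t n ht (orderOf_eq_prime (hN3' n hn) hn1) hc
    let f : N → N := fun e =>
      ⟨(e : G)⁻¹ * (t * e * t⁻¹), N.mul_mem (N.inv_mem e.2) (hnorm.conj_mem e e.2 t)⟩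
    have hinj : Function.Injective f := by
      intro a b hab
      have h1 : (a : G)⁻¹ * (t * a * t⁻¹) = (b : G)⁻¹ * (t * b * t⁻¹) :=
        congrArg Subtype.val hab
      exact Subtype.ext (fpf_key N t hfpf a b a.2 b.2 h1)
    intro n hn
    obtain ⟨a, ha⟩ := (Finite.injective_iff_surjective.1 hinj) ⟨n, hn⟩
    have ha' : (a : G)⁻¹ * (t * a * t⁻¹) = n := congrArg Subtype.val ha
    rw [← ha']
    have htinv : t⁻¹ = t := inv_eq_self_of_sq ht2
    have htt : t * t = 1 := by rw [← pow_two]; exact ht2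
    rw [htinv]
    simp only [mul_inv_rev, inv_inv, mul_assoc, htinv, htt, mul_one]
  have hg42 : orderOf (g4 ^ 2) = 2 := by
    rw [orderOf_pow' g4 (by norm_num), hg4]; rfl
  obtain ⟨t0, ht0⟩ : ∃ t0 : G, orderOf t0 = 2 := ⟨g4 ^ 2, hg42⟩
  have hcomm : ∀ a ∈ N, ∀ b ∈ N, a * b = b * a := by
    intro a ha b hb
    have h1 := hinv t0 ht0 (a * b) (N.mul_mem ha hb)
    have h2 := hinv t0 ht0 a ha
    have h3 := hinv t0 ht0 b hb
    have h4 : t0 * (a * b) * t0⁻¹ = (t0 * a * t0⁻¹) * (t0 * b * t0⁻¹) := by group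
    rw [h4, h2, h3, mul_inv_rev] at h1
    have := congrArg (fun x => x⁻¹) h1
    simpa [mul_inv_rev] using this.symm
  -- product of two involutions lies in N
  have hprod : ∀ t1 t2 : G, orderOf t1 = 2 → orderOf t2 = 2 → t1 * t2 ∈ N := by
    intro t1 t2 h1 h2
    apply hCN
    rw [Subgroup.mem_centralizer_iff]
    intro n hn
    have e2 : t2 * n * t2⁻¹ = n⁻¹ := hinv t2 h2 n hn
    have e1 : t1 * n⁻¹ * t1⁻¹ = n := by rw [hinv t1 h1 n⁻¹ (N.inv_mem hn), inv_inv]
    calc n * (t1 * t2) = (t1 * n⁻¹ * t1⁻¹) * (t1 * t2) := by rw [e1]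
      _ = t1 * n⁻¹ * t2 := by group
      _ = t1 * (t2 * n * t2⁻¹) * t2 := by rw [e2]
      _ = t1 * t2 * n := by group
  have ht02 : t0 ^ 2 = 1 := by rw [← ht0]; exact pow_orderOf_eq_one t0
  have ht0N : t0 ∉ N := by
    intro hmem
    have h3 := hN3' t0 hmem
    have : t0 = 1 := by
      have : t0 ^ 3 = t0 ^ 2 * t0 := pow_succ t0 2
      rw [h3, ht02, one_mul] at this; exact this.symm
    rw [this, orderOf_one] at ht0; omega
  have hz : ∀ t : G, orderOf t = 2 → (t : G ⧸ N) = (t0 : G ⧸ N) := by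
    intro t ht
    rw [QuotientGroup.eq]
    have htinv : t⁻¹ = t := inv_eq_self_of_sq (by rw [← ht]; exact pow_orderOf_eq_one t)
    rw [htinv]; exact hprod t t0 ht ht0
  have hz1 : (t0 : G ⧸ N) ≠ 1 := fun h => ht0N ((QuotientGroup.eq_one_iff t0).1 h)
  have hz2 : orderOf (t0 : G ⧸ N) = 2 := by
    apply orderOf_eq_prime _ hz1
    rw [← QuotientGroup.mk_pow, ht02]; rfl
  have hno3 : ∀ q : G ⧸ N, q ^ 3 = 1 → q = 1 := by
    intro q hq3
    by_contra hq1
    have hq : orderOf q = 3 := orderOf_eq_prime hq3 hq1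
    obtain ⟨g, rfl⟩ := QuotientGroup.mk_surjective q
    have hconj : orderOf (g * t0 * g⁻¹) = 2 := by
      apply orderOf_eq_prime
      · rw [conj_pow, ht02, mul_one, mul_inv_cancel]
      · intro h1
        have : t0 = g⁻¹ * (g * t0 * g⁻¹) * g := by group
        rw [h1] at this
        rw [this] at ht0N
        apply ht0N
        have : g⁻¹ * 1 * g = 1 := by group
        rw [this]; exact N.one_mem
    have hzc : Commute (t0 : G ⧸ N) (g : G ⧸ N) := by
      have := hz (g * t0 * g⁻¹) hconj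
      rw [QuotientGroup.mk_mul, QuotientGroup.mk_mul, QuotientGroup.mk_inv] at this
      exact (mul_inv_eq_iff_eq_mul.1 this).symm
    have h6 : orderOf ((t0 : G ⧸ N) * (g : G ⧸ N)) = 2 * 3 := by
      have := hzc.orderOf_mul_eq_mul_orderOf_of_coprime (by rw [hz2, hq]; decide)
      rw [this, hz2, hq]
    have hd : 6 ∣ orderOf (t0 * g) := by
      have := orderOf_map_dvd (QuotientGroup.mk' N) (t0 * g)
      rw [QuotientGroup.mk'_apply, QuotientGroup.mk_mul, h6] at this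
      exact this
    rcases H4 (t0 * g) with h | h | h | h <;> omega
  have hQ4 : ∀ q : G ⧸ N, q ^ 4 = 1 := by
    intro q
    obtain ⟨g, rfl⟩ := QuotientGroup.mk_surjective q
    by_cases h3 : orderOf g = 3
    · have : g ^ 3 = 1 := by rw [← h3]; exact pow_orderOf_eq_one g
      have h3' : (g : G ⧸ N) ^ 3 = 1 := by rw [← QuotientGroup.mk_pow, this]; rfl
      rw [hno3 _ h3', one_pow]
    · rw [← QuotientGroup.mk_pow, pow_four_of_ne_three H4 g h3]; rfl
  have hQp : IsPGroup 2 (G ⧸ N) := fun q => ⟨2, by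
    rw [show (2 : ℕ) ^ 2 = 4 from rfl]; exact hQ4 q⟩
  have hinvQ : ∀ q : G ⧸ N, orderOf q = 2 → q = (t0 : G ⧸ N) := by
    intro q hq
    obtain ⟨g, rfl⟩ := QuotientGroup.mk_surjective q
    have hd : 2 ∣ orderOf g := by rw [← hq]; exact orderOf_map_dvd (QuotientGroup.mk' N) g
    rcases H4 g with h | h | h | h
    · omega
    · exact hz g h
    · omega
    · exfalso
      have h2 : orderOf (g ^ 2) = 2 := by rw [orderOf_pow' g (by norm_num), h]; rfl
      have := hz (g ^ 2) h2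
      have e : (g : G ⧸ N) ^ 2 = 1 := by rw [← hq]; exact pow_orderOf_eq_one _
      rw [QuotientGroup.mk_pow, e] at this
      exact hz1 this.symm
  have huniq : ∀ H K : Subgroup (G ⧸ N), Nat.card H = 2 → Nat.card K = 2 → H = K := by
    have key : ∀ H : Subgroup (G ⧸ N), Nat.card H = 2 →
        H = Subgroup.zpowers (t0 : G ⧸ N) := by
      intro H hH
      haveI : Fact (Nat.Prime 2) := ⟨Nat.prime_two⟩
      obtain ⟨x, hx⟩ := exists_prime_orderOf_dvd_card' (G := H) 2 (by rw [hH])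
      have hx' : orderOf (x : G ⧸ N) = 2 := by rw [Subgroup.orderOf_coe]; exact hx
      have hmem : (t0 : G ⧸ N) ∈ H := by rw [← hinvQ _ hx']; exact x.2
      symm
      apply Subgroup.eq_of_le_of_card_ge
      · rw [Subgroup.zpowers_le]; exact hmem
      · rw [hH, Nat.card_zpowers, hz2]
    intro H K hH hK
    rw [key H hH, key K hK]
  haveI : Fact (Nat.Prime 2) := ⟨Nat.prime_two⟩
  have hg4Q : orderOf (g4 : G ⧸ N) = 4 := by
    have h1 : ¬ (g4 : G ⧸ N) ^ 2 ^ 1 = 1 := by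
      rw [pow_one, ← QuotientGroup.mk_pow, hz (g4 ^ 2) hg42]
      exact hz1
    have h2 : (g4 : G ⧸ N) ^ 2 ^ (1 + 1) = 1 := hQ4 _
    exact orderOf_eq_prime_pow h1 h2
  have cyc : IsCyclic (G ⧸ N) → N.index = 4 := by
    intro hc
    obtain ⟨c, hc⟩ := @IsCyclic.exists_generator _ _ hc
    have h1 : orderOf c = Nat.card (G ⧸ N) := orderOf_eq_card_of_forall_mem_zpowers hc
    have h2 : orderOf c ∣ 4 := orderOf_dvd_of_pow_eq_one (hQ4 c)
    have h3 : 4 ∣ Nat.card (G ⧸ N) := by rw [← hg4Q]; exact orderOf_dvd_natCard _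
    rw [Subgroup.index_eq_card, ← h1]
    exact Nat.dvd_antisymm h2 (h1 ▸ h3)
  refine ⟨⟨⟨⟨fun a b => Subtype.ext (hcomm a a.2 b b.2)⟩⟩, hN3'⟩, ?_⟩
  rcases Cfsg.Agent.S0016.result 2 hQp huniq with hc | ⟨-, n, ⟨e⟩⟩
  · exact Or.inl ⟨hc, cyc hc⟩
  · have ha : orderOf (QuaternionGroup.a 1 : QuaternionGroup (2 ^ n)) = 2 * 2 ^ n :=
      QuaternionGroup.orderOf_a_one
    have hd : 2 * 2 ^ n ∣ 4 := by
      rw [← ha, ← MulEquiv.orderOf_eq e.symm]
      exact orderOf_dvd_of_pow_eq_one (hQ4 _)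
    rcases n with _ | _ | n
    · have hcyc : IsCyclic (G ⧸ N) := by
        haveI : IsCyclic (QuaternionGroup (2 ^ 0)) :=
          QuaternionGroup.quaternionGroup_one_isCyclic
        exact isCyclic_of_surjective e.symm e.symm.surjective
      exact Or.inl ⟨hcyc, cyc hcyc⟩
    · exact Or.inr ⟨e⟩
    · exfalso
      have h1 : 2 * 2 ^ (n + 2) ≤ 4 := Nat.le_of_dvd (by norm_num) hd
      have h2 : 2 ^ (n + 2) = 2 ^ n * 4 := by ring
      have h3 : 0 < 2 ^ n := Nat.pos_of_ne_zero (by positivity)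
      omega


theorem caseII [Finite G] [Group.IsSolvable G]
    (H4 : ∀ g : G, orderOf g = 1 ∨ orderOf g = 2 ∨ orderOf g = 3 ∨ orderOf g = 4)
    (g3 g4 : G) (hg3 : orderOf g3 = 3) (hg4 : orderOf g4 = 4)
    (a b : ℕ) (hcard : Nat.card G = 2 ^ a * 3 ^ b)
    (N : Subgroup G) [hNn : N.Normal] (hN2 : IsPGroup 2 N) (hNbot : N ≠ ⊥)
    (hNmax : ∀ M : Subgroup G, M.Normal → IsPGroup 2 M → M ≤ N) :
    (IsPGroup 2 ↥N ∧ Monoid.exponent ↥N = 4 ∧ Group.nilpotencyClass ↥N ≤ 2 ∧ N.index = 3) ∨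
      (Cfsg.IsElementaryAbelian 2 N ∧ Nonempty (G ⧸ N ≃* Equiv.Perm (Fin 3))) := by
  haveI : Fact (Nat.Prime 2) := ⟨Nat.prime_two⟩
  haveI : Fact (Nat.Prime 3) := ⟨Nat.prime_three⟩
  have hg33 : g3 ^ 3 = 1 := by rw [← hg3]; exact pow_orderOf_eq_one g3
  have hN4 : ∀ n ∈ N, n ^ 4 = 1 := by
    intro n hn
    obtain ⟨k, hk⟩ := hN2 ⟨n, hn⟩
    have : n ^ (2 ^ k) = 1 := by simpa using congrArg Subtype.val hk
    exact pow_four_of_two_pow H4 n k this
  have hfpf3 : ∀ y : G, orderOf y = 3 → ∀ n ∈ N, y * n * y⁻¹ = n → n = 1 := by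
    intro y hy n hn hfix
    by_contra hn1
    have hc : Commute n y := by
      have : y * n = n * y := by
        calc y * n = (y * n * y⁻¹) * y := by group
          _ = n * y := by rw [hfix]
      exact this.symm
    exact no_comm_4 H4 n y (hN4 n hn) hn1 hy hc
  -- 9 does not divide the order
  have h9 : ¬ 9 ∣ Nat.card G := by
    intro hd
    obtain ⟨A, hA⟩ := Sylow.exists_subgroup_card_pow_prime 3 (show 3 ^ 2 ∣ Nat.card G from hd)
    haveI : IsMulCommutative A := IsPGroup.isMulCommutative_of_card_eq_prime_sq hA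
    obtain ⟨V, hVdef⟩ : ∃ V : Subgroup G, V = N ⊓ Subgroup.centralizer (N : Set G) := ⟨_, rfl⟩
    have hVn : V.Normal := by rw [hVdef]; infer_instance
    have hVN : V ≤ N := by rw [hVdef]; exact inf_le_left
    have hVc : ∀ v ∈ V, ∀ n ∈ N, n * v = v * n := by
      intro v hv n hn
      rw [hVdef] at hv
      exact Subgroup.mem_centralizer_iff.1 hv.2 n hn
    haveI : IsMulCommutative V :=
      ⟨⟨fun x y => Subtype.ext (hVc y y.2 x (hVN x.2))⟩⟩
    have hV : V ≠ ⊥ := by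
      haveI : Nontrivial N := (Subgroup.nontrivial_iff_ne_bot N).2 hNbot
      haveI := hN2.center_nontrivial
      obtain ⟨z, hz⟩ := exists_ne (1 : Subgroup.center N)
      intro hVbot
      have hzV : ((z : N) : G) ∈ V := by
        rw [hVdef]
        refine ⟨(z : N).2, Subgroup.mem_centralizer_iff.2 ?_⟩
        intro n hn
        have := Subgroup.mem_center_iff.1 z.2 ⟨n, hn⟩
        exact congrArg Subtype.val this
      rw [hVbot, Subgroup.mem_bot] at hzV
      exact hz (Subtype.ext (Subtype.ext hzV))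
    have hAV : A ≤ Subgroup.normalizer (V : Set G) := by
      rw [Subgroup.normalizer_eq_top]; exact le_top
    have hfpfA : ∀ x ∈ A, x ≠ 1 → V ⊓ Subgroup.centralizer {x} = ⊥ := by
      intro x hx hx1
      have hx9 : x ^ (3 ^ 2) = 1 := by
        have := pow_card_eq_one' (G := A) (x := ⟨x, hx⟩)
        rw [hA] at this
        simpa using congrArg Subtype.val this
      have hx3 : orderOf x = 3 := orderOf_eq_prime (pow_three_of_three_pow H4 x 2 hx9) hx1
      rw [eq_bot_iff]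
      intro v hv
      rw [Subgroup.mem_bot]
      by_contra hv1
      have hc : Commute v x := by
        have := Subgroup.mem_centralizer_iff.1 hv.2 x (Set.mem_singleton x)
        exact this.symm
      exact no_comm_4 H4 v x (hN4 v (hVN hv.1)) hv1 hx3 hc
    have hcyc : IsCyclic A := Cfsg.Agent.S0041.result A V hV hAV hfpfA (Or.inl inferInstance)
    obtain ⟨c, hc⟩ := @IsCyclic.exists_generator _ _ hcyc
    have h1 : orderOf c = Nat.card A := orderOf_eq_card_of_forall_mem_zpowers hc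
    have h2 : orderOf (c : G) = 9 := by rw [Subgroup.orderOf_coe, h1, hA]; rfl
    rcases H4 (c : G) with h | h | h | h <;> omega
  -- the quotient
  have hQ2 : ∀ M : Subgroup (G ⧸ N), M.Normal → IsPGroup 2 M → M = ⊥ := by
    intro M hMn hM2
    have h1 : IsPGroup 2 (M.comap (QuotientGroup.mk' N)) := by
      apply hM2.comap_of_ker_isPGroup
      rw [QuotientGroup.ker_mk']; exact hN2
    have h2 : M.comap (QuotientGroup.mk' N) ≤ N := hNmax _ (hMn.comap _) h1
    rw [eq_bot_iff]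
    intro q hq
    obtain ⟨g, rfl⟩ := QuotientGroup.mk_surjective q
    rw [Subgroup.mem_bot, QuotientGroup.eq_one_iff]
    exact h2 hq
  have hOQ : ∀ M : Subgroup (G ⧸ N), M.Normal → (Nat.card M).Coprime 3 → M = ⊥ := by
    intro M hMn hco
    apply hQ2 M hMn
    have hd : Nat.card M ∣ 2 ^ a * 3 ^ b := by
      rw [← hcard]
      exact dvd_trans (Subgroup.card_subgroup_dvd_card M) (Subgroup.card_quotient_dvd_card N)
    have hd2 : Nat.card M ∣ 2 ^ a := (Nat.Coprime.pow_right b hco).dvd_of_dvd_mul_right hd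
    obtain ⟨k, -, hk⟩ := (Nat.dvd_prime_pow Nat.prime_two).1 hd2
    exact IsPGroup.of_card hk
  obtain ⟨R, hRdef⟩ : ∃ R : Subgroup (G ⧸ N), R = Cfsg.pCore 3 (G ⧸ N) := ⟨_, rfl⟩
  have hRn : R.Normal := by rw [hRdef]; exact Cfsg.pCore_normal 3 (G ⧸ N)
  have hR3 : IsPGroup 3 R := by rw [hRdef]; exact Cfsg.Agent.Lib.Helper55.pCore_isPGroup 3 (G ⧸ N)
  have hCR : Subgroup.centralizer (R : Set (G ⧸ N)) ≤ R := by
    rw [hRdef]; exact Cfsg.Agent.Lib.Helper55.centralizer_pCore_le (p := 3) hOQ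
  obtain ⟨yb, hyb⟩ : ∃ yb : G ⧸ N, yb = (g3 : G ⧸ N) := ⟨_, rfl⟩
  have hy1 : yb ≠ 1 := by
    rw [hyb]
    intro h
    have hmem : g3 ∈ N := (QuotientGroup.eq_one_iff g3).1 h
    have h4 := hN4 g3 hmem
    have : orderOf g3 ∣ 4 := orderOf_dvd_of_pow_eq_one h4
    rw [hg3] at this; omega
  have hy3 : yb ^ 3 = 1 := by
    rw [hyb, ← QuotientGroup.mk_pow, hg33]; rfl
  have hyord : orderOf yb = 3 := orderOf_eq_prime hy3 hy1
  have hRcard : Nat.card R = 3 := by
    obtain ⟨k, hk⟩ := (IsPGroup.iff_card).1 hR3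
    have hRd : Nat.card R ∣ Nat.card G :=
      dvd_trans (Subgroup.card_subgroup_dvd_card R) (Subgroup.card_quotient_dvd_card N)
    rcases k with _ | _ | k
    · exfalso
      have hRbot : R = ⊥ := Subgroup.card_eq_one.1 (by rw [hk]; rfl)
      have : yb ∈ R := by
        apply hCR
        rw [Subgroup.mem_centralizer_iff]
        intro r hr
        rw [hRbot] at hr
        rw [Subgroup.mem_bot.1 hr, one_mul, mul_one]
      rw [hRbot, Subgroup.mem_bot] at this
      exact hy1 this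
    · rw [hk]; rfl
    · exfalso
      apply h9
      rw [hk] at hRd
      exact dvd_trans (Dvd.intro_left (3 ^ k) (by ring)) hRd
  have hQ6 : Nat.card (G ⧸ N) ∣ 6 := by
    let φ : (G ⧸ N) →* MulAut R := MulAut.conjNormal
    have hker : φ.ker ≤ R := by
      intro q hq
      apply hCR
      rw [Subgroup.mem_centralizer_iff]
      intro r hr
      have h1 : φ q ⟨r, hr⟩ = ⟨r, hr⟩ := by rw [MonoidHom.mem_ker.1 hq]; rfl
      have h2 : q * r * q⁻¹ = r := by
        have := congrArg Subtype.val h1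
        rwa [MulAut.conjNormal_apply] at this
      calc r * q = (q * r * q⁻¹) * q := by rw [h2]
        _ = q * r := by group
    have h1 : Nat.card φ.ker ∣ 3 := by rw [← hRcard]; exact Subgroup.card_dvd_of_le hker
    have h2 : φ.ker.index ∣ 2 := by
      rw [Subgroup.index_ker]
      haveI : IsCyclic R := isCyclic_of_prime_card hRcard
      have : Nat.card (MulAut R) = 2 := by
        rw [IsCyclic.card_mulAut, hRcard, Nat.totient_prime Nat.prime_three]
      rw [← this]; exact Subgroup.card_subgroup_dvd_card _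
    rw [← Subgroup.card_mul_index φ.ker]
    exact mul_dvd_mul h1 h2
  have h36 : Nat.card (G ⧸ N) = 3 ∨ Nat.card (G ⧸ N) = 6 := by
    have h3 : 3 ∣ Nat.card (G ⧸ N) := by rw [← hyord]; exact orderOf_dvd_natCard _
    obtain ⟨k, hk⟩ := h3
    have hle := Nat.le_of_dvd (by norm_num) hQ6
    have hpos : 0 < Nat.card (G ⧸ N) := Nat.card_pos
    omega
  rcases h36 with h | h
  · left
    have hidx : N.index = 3 := by rw [Subgroup.index_eq_card]; exact h
    refine ⟨hN2, ?_, ?_, hidx⟩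
    · have hg4N : g4 ∈ N := by
        rw [← QuotientGroup.eq_one_iff]
        have e3 : (g4 : G ⧸ N) ^ 3 = 1 := by rw [← h]; exact pow_card_eq_one'
        have e4 : (g4 : G ⧸ N) ^ 4 = 1 := by
          rw [← QuotientGroup.mk_pow, ← hg4, pow_orderOf_eq_one]; rfl
        have e5 : (g4 : G ⧸ N) ^ 4 = (g4 : G ⧸ N) ^ 3 * (g4 : G ⧸ N) := pow_succ _ 3
        rw [e4, e3, one_mul] at e5
        exact e5.symm
      apply Nat.dvd_antisymm
      · apply Monoid.exponent_dvd_of_forall_pow_eq_one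
        intro n
        exact Subtype.ext (by simpa using hN4 n n.2)
      · have : orderOf (⟨g4, hg4N⟩ : N) = 4 := by rw [← Subgroup.orderOf_coe]; exact hg4
        rw [← this]; exact Monoid.order_dvd_exponent _
    · haveI : Group.IsNilpotent N := hN2.isNilpotent
      rw [← lowerCentralSeries_eq_bot_iff_nilpotencyClass_le]
      let α : MulAut N := MulAut.conjNormal g3
      have hαfpf : ∀ n : N, α n = n → n = 1 := by
        intro n hn
        have h2 : g3 * (n : G) * g3⁻¹ = n := by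
          have := congrArg Subtype.val hn
          rwa [MulAut.conjNormal_apply] at this
        exact Subtype.ext (hfpf3 g3 hg3 n n.2 h2)
      have hα : orderOf α = 3 := by
        apply orderOf_eq_prime
        · show (MulAut.conjNormal g3 : MulAut N) ^ 3 = 1
          rw [← map_pow, hg33, map_one]
        · intro hα1
          obtain ⟨n, hn, hn1⟩ := N.bot_or_exists_ne_one.resolve_left hNbot
          have h1 : α ⟨n, hn⟩ = ⟨n, hn⟩ := by rw [hα1]; rfl
          exact hn1 (congrArg Subtype.val (hαfpf ⟨n, hn⟩ h1))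
      exact (Cfsg.Agent.S3779.result Nat.prime_three α hα hαfpf).2.1 rfl
  · right
    have hRidx : R.index = 2 := by
      have := Subgroup.card_mul_index R
      rw [hRcard, h] at this
      omega
    have hR3' : ∀ q : G ⧸ N, q ^ 3 = 1 → q ∈ R := by
      intro q hq
      have h2 : q ^ 2 ∈ R := Subgroup.sq_mem_of_index_two hRidx q
      have : q = (q ^ 2)⁻¹ := by
        rw [eq_inv_iff_mul_eq_one, ← pow_succ']; exact hq
      rw [this]; exact R.inv_mem h2
    have hyR : yb ∈ R := hR3' yb hy3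
    have hRz : R = Subgroup.zpowers yb := by
      symm; apply Subgroup.eq_of_le_of_card_ge
      · rw [Subgroup.zpowers_le]; exact hyR
      · rw [hRcard, Nat.card_zpowers, hyord]
    have hout : ∀ g : G, (g : G ⧸ N) ∉ R → g ^ 4 = 1 ∧ g ^ 2 ∈ N := by
      intro g hg
      have hg3' : orderOf g ≠ 3 := by
        intro h3
        apply hg
        apply hR3'
        rw [← QuotientGroup.mk_pow, ← h3, pow_orderOf_eq_one]; rfl
      have hg4' : g ^ 4 = 1 := pow_four_of_ne_three H4 g hg3'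
      refine ⟨hg4', ?_⟩
      rw [← QuotientGroup.eq_one_iff, QuotientGroup.mk_pow]
      have e6 : (g : G ⧸ N) ^ 6 = 1 := by rw [← h]; exact pow_card_eq_one'
      have e4 : (g : G ⧸ N) ^ 4 = 1 := by rw [← QuotientGroup.mk_pow, hg4']; rfl
      have e5 : (g : G ⧸ N) ^ 6 = (g : G ⧸ N) ^ 4 * (g : G ⧸ N) ^ 2 := pow_add _ 4 2
      rw [e6, e4, one_mul] at e5
      exact e5.symm
    obtain ⟨q0, hq0⟩ : ∃ q0 : G ⧸ N, q0 ∉ R := by
      by_contra hall
      have hall' : ∀ q : G ⧸ N, q ∈ R := fun q => by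
        by_contra hq
        exact hall ⟨q, hq⟩
      have : R = ⊤ := (Subgroup.eq_top_iff' R).2 hall'
      rw [this, Subgroup.index_top] at hRidx
      omega
    obtain ⟨s, rfl⟩ := QuotientGroup.mk_surjective q0
    have hconj : (s : G ⧸ N) * yb * (s : G ⧸ N)⁻¹ = yb⁻¹ := by
      have hmem : (s : G ⧸ N) * yb * (s : G ⧸ N)⁻¹ ∈ Subgroup.zpowers yb := by
        rw [← hRz]; exact hRn.conj_mem yb hyR s
      rcases mem_zpowers_three yb hy3 _ hmem with h1 | h1 | h1
      · exfalso; apply hy1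
        have : yb = (s : G ⧸ N)⁻¹ * ((s : G ⧸ N) * yb * (s : G ⧸ N)⁻¹) * (s : G ⧸ N) := by
          group
        rw [this, h1]; group
      · exfalso; apply hq0
        apply hCR
        rw [Subgroup.mem_centralizer_iff]
        intro r hr
        rw [hRz] at hr
        have hsy : (s : G ⧸ N) * yb = yb * s := by
          calc (s : G ⧸ N) * yb = ((s : G ⧸ N) * yb * (s : G ⧸ N)⁻¹) * s := by group
            _ = yb * s := by rw [h1]
        obtain ⟨k, rfl⟩ := Subgroup.mem_zpowers_iff.1 hr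
        exact ((Commute.zpow_right hsy k).eq).symm
      · exact h1
    have hm : s * g3 * s⁻¹ * g3 ∈ N := by
      rw [← QuotientGroup.eq_one_iff]
      rw [QuotientGroup.mk_mul, QuotientGroup.mk_mul, QuotientGroup.mk_mul,
        QuotientGroup.mk_inv, ← hyb, hconj]
      exact inv_mul_cancel _
    have hfpf3i : ∀ n ∈ N, g3⁻¹ * n * g3⁻¹⁻¹ = n → n = 1 := by
      intro n hn hfix
      apply hfpf3 g3 hg3 n hn
      rw [inv_inv] at hfix
      calc g3 * n * g3⁻¹ = g3 * (g3⁻¹ * n * g3) * g3⁻¹ := by rw [hfix]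
        _ = n := by group
    let f : N → N := fun e => ⟨(e : G) * (g3⁻¹ * (e : G)⁻¹ * g3), N.mul_mem e.2 (by
      have := hNn.conj_mem _ (N.inv_mem e.2) g3⁻¹
      rwa [inv_inv] at this)⟩
    have hinj : Function.Injective f := by
      intro x x' hxx
      have h1 : (x : G) * (g3⁻¹ * (x : G)⁻¹ * g3) = (x' : G) * (g3⁻¹ * (x' : G)⁻¹ * g3) :=
        congrArg Subtype.val hxx
      have h2 : ((x : G)⁻¹)⁻¹ * (g3⁻¹ * (x : G)⁻¹ * g3⁻¹⁻¹) =
          ((x' : G)⁻¹)⁻¹ * (g3⁻¹ * (x' : G)⁻¹ * g3⁻¹⁻¹) := by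
        simp only [inv_inv]; exact h1
      exact Subtype.ext (inv_injective
        (fpf_key N g3⁻¹ hfpf3i _ _ (N.inv_mem x.2) (N.inv_mem x'.2) h2))
    obtain ⟨n1, hn1⟩ := (Finite.injective_iff_surjective.1 hinj) ⟨_, hm⟩
    have hn1' : (n1 : G) * (g3⁻¹ * (n1 : G)⁻¹ * g3) = s * g3 * s⁻¹ * g3 :=
      congrArg Subtype.val hn1
    obtain ⟨t, ht⟩ : ∃ t : G, t = (n1 : G)⁻¹ * s := ⟨_, rfl⟩
    have hty : t * g3 * t⁻¹ = g3⁻¹ := by
      have e1 : s * g3 * s⁻¹ = (n1 : G) * g3⁻¹ * (n1 : G)⁻¹ := by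
        calc s * g3 * s⁻¹ = (s * g3 * s⁻¹ * g3) * g3⁻¹ := by group
          _ = ((n1 : G) * (g3⁻¹ * (n1 : G)⁻¹ * g3)) * g3⁻¹ := by rw [hn1']
          _ = (n1 : G) * g3⁻¹ * (n1 : G)⁻¹ := by group
      rw [ht]
      calc (n1 : G)⁻¹ * s * g3 * ((n1 : G)⁻¹ * s)⁻¹
          = (n1 : G)⁻¹ * (s * g3 * s⁻¹) * n1 := by group
        _ = g3⁻¹ := by rw [e1]; group
    have hts : (t : G ⧸ N) = (s : G ⧸ N) := by
      rw [ht, QuotientGroup.mk_mul, QuotientGroup.mk_inv,
        (QuotientGroup.eq_one_iff (n1 : G)).2 n1.2, inv_one, one_mul]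
    have htR : (t : G ⧸ N) ∉ R := by rw [hts]; exact hq0
    have ht2N : t ^ 2 ∈ N := (hout t htR).2
    have ht2 : t ^ 2 = 1 := by
      apply hfpf3 g3 hg3 (t ^ 2) ht2N
      have h2 : t * g3⁻¹ = g3 * t := by
        have : t * g3⁻¹ * t⁻¹ = g3 := by
          have := congrArg (fun x => x⁻¹) hty
          simpa [mul_assoc] using this
        exact mul_inv_eq_iff_eq_mul.1 this
      rw [pow_two]
      calc g3 * (t * t) * g3⁻¹ = (g3 * t) * (t * g3⁻¹) := by group
        _ = (t * g3⁻¹) * (g3 * t) := by rw [h2]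
        _ = t * t := by group
    have hT4 : ∀ n ∈ N, (t * n) ^ 4 = 1 := by
      intro n hn
      apply (hout (t * n) _).1
      rw [QuotientGroup.mk_mul, (QuotientGroup.eq_one_iff n).2 hn, mul_one]
      exact htR
    have hexp2 : ∀ n ∈ N, n ^ 2 = 1 :=
      exp_two_of_S3 N g3 t hg33 ht2 hty (hfpf3 g3 hg3) hT4 hN4
    refine ⟨⟨⟨⟨fun x y => Subtype.ext
      (comm_of_sq (hexp2 x x.2) (hexp2 y y.2) (hexp2 _ (N.mul_mem x.2 y.2)))⟩⟩, hexp2⟩, ?_⟩
    -- the isomorphism with the symmetric group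
    obtain ⟨qs, hqs⟩ : ∃ qs : G ⧸ N, qs = (t : G ⧸ N) := ⟨_, rfl⟩
    have hqs2 : qs ^ 2 = 1 := by rw [hqs, ← QuotientGroup.mk_pow, ht2]; rfl
    have hqs1 : qs ≠ 1 := by
      intro h1
      apply htR
      rw [← hqs, h1]; exact R.one_mem
    have hconj' : qs * yb * qs⁻¹ = yb⁻¹ := by rw [hqs, hts]; exact hconj
    obtain ⟨H, hHdef⟩ : ∃ H : Subgroup (G ⧸ N), H = Subgroup.zpowers qs := ⟨_, rfl⟩
    have hHcard : Nat.card H = 2 := by
      rw [hHdef, Nat.card_zpowers]; exact orderOf_eq_prime hqs2 hqs1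
    have hHidx : H.index = 3 := by
      have := Subgroup.card_mul_index H
      rw [hHcard, h] at this
      omega
    let ψ : (G ⧸ N) →* Equiv.Perm ((G ⧸ N) ⧸ H) := MulAction.toPermHom (G ⧸ N) ((G ⧸ N) ⧸ H)
    have hψinj : Function.Injective ψ := by
      rw [← MonoidHom.ker_eq_bot_iff, eq_bot_iff]
      intro k hk
      have hkc : k ∈ H.normalCore := by rw [Subgroup.normalCore_eq_ker]; exact hk
      have hkH : k ∈ H := Subgroup.normalCore_le H hkc
      rw [hHdef] at hkH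
      rcases mem_zpowers_two qs hqs2 k hkH with h1 | h1
      · rw [Subgroup.mem_bot]; exact h1
      · exfalso
        have h2 : yb * k * yb⁻¹ ∈ H :=
          Subgroup.normalCore_le H ((Subgroup.normalCore_normal H).conj_mem k hkc yb)
        rw [h1, hHdef] at h2
        rcases mem_zpowers_two qs hqs2 _ h2 with h3 | h3
        · apply hqs1
          have : qs = yb⁻¹ * (yb * qs * yb⁻¹) * yb := by group
          rw [this, h3]; group
        · apply hy1
          have e1 : yb * qs = qs * yb := mul_inv_eq_iff_eq_mul.1 h3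
          have e2 : qs * yb = yb⁻¹ * qs := mul_inv_eq_iff_eq_mul.1 hconj'
          have e3 : yb = yb⁻¹ := mul_right_cancel (e1.trans e2)
          have e4 : yb ^ 2 = 1 := by
            rw [pow_two]; nth_rewrite 1 [e3]; exact inv_mul_cancel yb
          have e5 : yb ^ 3 = yb ^ 2 * yb := pow_succ yb 2
          rw [hy3, e4, one_mul] at e5
          exact e5.symm
    have hc3 : Nat.card ((G ⧸ N) ⧸ H) = 3 := by rw [← Subgroup.index_eq_card]; exact hHidx
    have hbij : Function.Bijective ψ := by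
      apply Function.Injective.bijective_of_nat_card_le hψinj
      rw [Nat.card_perm, hc3, h]; decide
    exact ⟨(MulEquiv.ofBijective ψ hbij).trans
      (Equiv.permCongrHom (Finite.equivFinOfCardEq hc3))⟩

theorem main [Finite G] (h : Set.range (orderOf : G → ℕ) = {k : ℕ | 1 ≤ k ∧ k ≤ 4}) :
    ∃ (N : Subgroup G) (_ : N.Normal),
      (IsPGroup 2 ↥N ∧ Monoid.exponent ↥N = 4 ∧ Group.nilpotencyClass ↥N ≤ 2 ∧ N.index = 3) ∨
      (Cfsg.IsElementaryAbelian 2 N ∧ Nonempty (G ⧸ N ≃* Equiv.Perm (Fin 3))) ∨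
      (Cfsg.IsElementaryAbelian 3 N ∧
        ((IsCyclic (G ⧸ N) ∧ N.index = 4) ∨ Nonempty (G ⧸ N ≃* QuaternionGroup 2))) := by
  have H4 : ∀ g : G, orderOf g = 1 ∨ orderOf g = 2 ∨ orderOf g = 3 ∨ orderOf g = 4 := by
    intro g
    have : orderOf g ∈ {k : ℕ | 1 ≤ k ∧ k ≤ 4} := h ▸ Set.mem_range_self g
    obtain ⟨h1, h2⟩ := this
    omega
  obtain ⟨g3, hg3⟩ : ∃ g : G, orderOf g = 3 := by
    have : (3 : ℕ) ∈ Set.range (orderOf : G → ℕ) := by
      rw [h]; exact ⟨by norm_num, by norm_num⟩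
    exact this
  obtain ⟨g4, hg4⟩ : ∃ g : G, orderOf g = 4 := by
    have : (4 : ℕ) ∈ Set.range (orderOf : G → ℕ) := by
      rw [h]; exact ⟨by norm_num, by norm_num⟩
    exact this
  obtain ⟨a, b, hcard⟩ := card_two_three H4
  haveI : Group.IsSolvable G :=
    Cfsg.Agent.S0144.result 2 3 a b Nat.prime_two Nat.prime_three hcard
  haveI : Fact (Nat.Prime 2) := ⟨Nat.prime_two⟩
  haveI : Fact (Nat.Prime 3) := ⟨Nat.prime_three⟩
  by_cases h2 : Cfsg.pCore 2 G = ⊥
  · refine ⟨Cfsg.pCore 3 G, Cfsg.pCore_normal 3 G, Or.inr (Or.inr ?_)⟩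
    have hO : ∀ M : Subgroup G, M.Normal → (Nat.card M).Coprime 3 → M = ⊥ := by
      intro M hMn hco
      have hd : Nat.card M ∣ 2 ^ a * 3 ^ b := by
        rw [← hcard]; exact Subgroup.card_subgroup_dvd_card M
      have hd2 : Nat.card M ∣ 2 ^ a := (Nat.Coprime.pow_right b hco).dvd_of_dvd_mul_right hd
      obtain ⟨k, -, hk⟩ := (Nat.dvd_prime_pow Nat.prime_two).1 hd2
      have := Cfsg.Agent.Lib.Helper55.le_pCore hMn (IsPGroup.of_card hk)
      rw [h2] at this
      exact le_bot_iff.1 this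
    exact caseI H4 g4 hg4 (Cfsg.pCore 3 G) (Cfsg.Agent.Lib.Helper55.pCore_isPGroup 3 G)
      (Cfsg.Agent.Lib.Helper55.centralizer_pCore_le hO)
  · refine ⟨Cfsg.pCore 2 G, Cfsg.pCore_normal 2 G, ?_⟩
    rcases caseII H4 g3 g4 hg3 hg4 a b hcard (Cfsg.pCore 2 G)
      (Cfsg.Agent.Lib.Helper55.pCore_isPGroup 2 G) h2
      (fun M hM hM2 => Cfsg.Agent.Lib.Helper55.le_pCore hM hM2) with hA | hB
    · exact Or.inl hA
    · exact Or.inr (Or.inl hB)

end elems

end Cfsg.Agent.Lib.Helper29.Ord1234
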