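import Mathlib
import Cfsg.Agent.Lib.Helper11.PSolvStable
import Cfsg.Agent.Lib.Helper87.PGroupFrattini
import Cfsg.Agent.Lib.Helper79.SolvPSolv
import Cfsg.Agent.Lib.Helper71.Fitting
import Cfsg.Agent.Lib.Helper29.WPNil
import Cfsg.Agent.S0044

/-!
# Quadratic `q`-elements of a solvable group lie in the Fitting subgroup (`q ≥ 5`)

`mem_fitting_of_quad`: in a finite solvable group `S`, a `q`-element `x` (`q ≥ 5`) that commutes
with all the commutators `[u, x]`, `u ∈ F(S)`, lies in `F(S)`.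
-/

set_option autoImplicit false

namespace Cfsg.Agent.Lib.Helper29.QuadFit

open Cfsg.Agent.Lib.Helper29.WP
open scoped commutatorElement

universe u

variable {G : Type u} [Group G]

theorem conj_pow_of_comm {u x c : G} (hc : u * x * u⁻¹ = c * x) (hxc : x * c = c * x) (k : ℕ) :
    u * x ^ k * u⁻¹ = c ^ k * x ^ k := by
  induction k with
  | zero => simp
  | succ k ih =>
    have h1 : u * x ^ (k + 1) * u⁻¹ = (u * x ^ k * u⁻¹) * (u * x * u⁻¹) := by
      rw [pow_succ]; group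
    have h2 : x ^ k * c = c * x ^ k := (Commute.pow_left (show Commute x c from hxc) k).eq
    rw [h1, ih, hc, pow_succ, pow_succ]
    calc c ^ k * x ^ k * (c * x) = c ^ k * (x ^ k * c) * x := by group
      _ = c ^ k * (c * x ^ k) * x := by rw [h2]
      _ = c ^ k * c * (x ^ k * x) := by group

theorem comm_of_coprime {q : ℕ} {u x : G} {m : ℕ} (hx : x ^ q ^ m = 1)
    (hxc : x * (u * x * u⁻¹ * x⁻¹) = (u * x * u⁻¹ * x⁻¹) * x)
    (hcop : (orderOf (u * x * u⁻¹ * x⁻¹)).Coprime q) : u * x = x * u := by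
  have h1 : u * x * u⁻¹ = (u * x * u⁻¹ * x⁻¹) * x := by group
  have h2 := conj_pow_of_comm h1 hxc (q ^ m)
  rw [hx] at h2
  have h3 : (u * x * u⁻¹ * x⁻¹) ^ q ^ m = 1 := by
    have e : u * 1 * u⁻¹ = (1 : G) := by group
    rw [e, mul_one] at h2
    exact h2.symm
  have h4 : orderOf (u * x * u⁻¹ * x⁻¹) ∣ q ^ m := orderOf_dvd_of_pow_eq_one h3
  have h5 : orderOf (u * x * u⁻¹ * x⁻¹) = 1 := (hcop.pow_right m).eq_one_of_dvd h4
  have h6 : u * x * u⁻¹ * x⁻¹ = 1 := orderOf_eq_one_iff.mp h5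
  calc u * x = (u * x * u⁻¹ * x⁻¹) * (x * u) := by group
    _ = x * u := by rw [h6, one_mul]

theorem quad_of_comm (Q : Subgroup G) (x : G)
    (h : ∀ u ∈ Q, x * (u * x * u⁻¹ * x⁻¹) = (u * x * u⁻¹ * x⁻¹) * x) :
    ⁅⁅Q, Subgroup.zpowers x⁆, Subgroup.zpowers x⁆ = ⊥ := by
  rw [Subgroup.commutator_eq_bot_iff_le_centralizer, Subgroup.commutator_le]
  let Cx : Subgroup G := Subgroup.centralizer ({x} : Set G)
  have hCx : ∀ z : G, z ∈ Cx ↔ x * z = z * x := fun z => by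
    show z ∈ Subgroup.centralizer ({x} : Set G) ↔ _
    rw [Subgroup.mem_centralizer_iff]
    constructor
    · intro hz; exact hz x rfl
    · intro hz y hy; rw [Set.mem_singleton_iff.mp hy]; exact hz
  let K₀ : Subgroup G :=
    { carrier := {z | z ∈ Cx ∧ ∀ u ∈ Q, u * z * u⁻¹ * z⁻¹ ∈ Cx}
      one_mem' := ⟨Cx.one_mem, fun u _ => by simp⟩
      mul_mem' := by
        rintro a b ⟨ha, ha'⟩ ⟨hb, hb'⟩
        refine ⟨Cx.mul_mem ha hb, fun u hu => ?_⟩
        have e : u * (a * b) * u⁻¹ * (a * b)⁻¹ =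
            (u * a * u⁻¹ * a⁻¹) * (a * (u * b * u⁻¹ * b⁻¹) * a⁻¹) := by group
        rw [e]
        exact Cx.mul_mem (ha' u hu) (Cx.mul_mem (Cx.mul_mem ha (hb' u hu)) (Cx.inv_mem ha))
      inv_mem' := by
        rintro a ⟨ha, ha'⟩
        refine ⟨Cx.inv_mem ha, fun u hu => ?_⟩
        have e : u * a⁻¹ * u⁻¹ * a⁻¹⁻¹ = a⁻¹ * (u * a * u⁻¹ * a⁻¹)⁻¹ * a := by group
        rw [e]
        exact Cx.mul_mem (Cx.mul_mem (Cx.inv_mem ha) (Cx.inv_mem (ha' u hu))) ha }
  have hxK : x ∈ K₀ := ⟨(hCx x).mpr rfl, fun u hu => (hCx _).mpr (h u hu)⟩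
  have hzK : Subgroup.zpowers x ≤ K₀ := Subgroup.zpowers_le.mpr hxK
  intro g₁ hg₁ g₂ hg₂
  have h1 : g₁ * g₂ * g₁⁻¹ * g₂⁻¹ ∈ Cx := (hzK hg₂).2 g₁ hg₁
  rw [commutatorElement_def, Subgroup.mem_centralizer_iff]
  intro y hy
  obtain ⟨n, rfl⟩ := Subgroup.mem_zpowers_iff.mp hy
  exact ((show Commute x (g₁ * g₂ * g₁⁻¹ * g₂⁻¹) from (hCx _).mp h1).zpow_left n).eq

/-- In a finite solvable group, a `q`-element (`q ≥ 5`) acting quadratically on the Fitting
subgroup lies in the Fitting subgroup. -/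
theorem mem_fitting_of_quad {S : Type u} [Group S] [Finite S] [Group.IsSolvable S] {q : ℕ}
    (hq : q.Prime) (hq5 : 5 ≤ q) {x : S} {m : ℕ} (hx : x ^ q ^ m = 1)
    (h : ∀ u ∈ Cfsg.fittingSubgroup S,
      x * (u * x * u⁻¹ * x⁻¹) = (u * x * u⁻¹ * x⁻¹) * x) :
    x ∈ Cfsg.fittingSubgroup S := by
  haveI : Fact q.Prime := ⟨hq⟩
  have hFn : (Cfsg.fittingSubgroup S).Normal := inferInstance
  have hFnil : Group.IsNilpotent (Cfsg.fittingSubgroup S) := Helper71.fittingSubgroup_isNilpotent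
  have hFc : Subgroup.centralizer (Cfsg.fittingSubgroup S : Set S) ≤ Cfsg.fittingSubgroup S :=
    Cfsg.Agent.S0044.result
  have hF'n : (pc (Cfsg.fittingSubgroup S) q).Normal := by
    have h1 := normalizer_le_pc (Cfsg.fittingSubgroup S) q
    rw [Subgroup.normalizer_eq_top] at h1
    exact Subgroup.normalizer_eq_top_iff.mp (top_le_iff.mp h1)
  have hPn : (pp (Cfsg.fittingSubgroup S) q).Normal := by
    have h1 := normalizer_le_pp (Cfsg.fittingSubgroup S) q
    rw [Subgroup.normalizer_eq_top] at h1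
    exact Subgroup.normalizer_eq_top_iff.mp (top_le_iff.mp h1)
  have hQ₀n : (Cfsg.pCore q S).Normal := inferInstance
  have hQ₀p : IsPGroup q (Cfsg.pCore q S) := Helper11.pCore_isPGroup' q S
  have hQ₀F : Cfsg.pCore q S ≤ Cfsg.fittingSubgroup S := le_sSup ⟨hQ₀n, hQ₀p.isNilpotent⟩
  have hPQ : pp (Cfsg.fittingSubgroup S) q ≤ Cfsg.pCore q S :=
    le_sSup ⟨hPn, isPGroup_pp hFnil⟩
  -- Step 1: `x` centralizes the `q'`-part of `F(S)`
  have hxF' : ∀ u ∈ pc (Cfsg.fittingSubgroup S) q, u * x = x * u := by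
    intro u hu
    have hc : u * x * u⁻¹ * x⁻¹ ∈ pc (Cfsg.fittingSubgroup S) q := by
      have h1 : x * u⁻¹ * x⁻¹ ∈ pc (Cfsg.fittingSubgroup S) q :=
        hF'n.conj_mem _ (Subgroup.inv_mem _ hu) x
      have e : u * x * u⁻¹ * x⁻¹ = u * (x * u⁻¹ * x⁻¹) := by group
      rw [e]; exact Subgroup.mul_mem _ hu h1
    exact comm_of_coprime hx (h u (pc_le _ q hu)) (orderOf_coprime_of_mem_pc hFnil hc)
  -- Step 2: quadratic action on `O_q(S)`
  have hquad : ⁅⁅Cfsg.pCore q S, Subgroup.zpowers x⁆, Subgroup.zpowers x⁆ = ⊥ :=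
    quad_of_comm _ x (fun u hu => h u (hQ₀F hu))
  -- Step 3: `p`-stability
  have hst := (Helper11.isActionPStable_of_isPSolvable hq5
    (Helper79.isPSolvable_of_isSolvable q (inferInstance : Group.IsSolvable S))).2.1
  obtain ⟨D, hDn, hCD, ⟨k, hk⟩, hxD⟩ := hst x (by rw [hquad]; exact bot_le)
  haveI hΦn : ((frattini ↥(Cfsg.pCore q S)).map (Cfsg.pCore q S).subtype).Normal := inferInstance
  haveI hCn : (Cfsg.sectionKernel (Cfsg.pCore q S)
      ((frattini ↥(Cfsg.pCore q S)).map (Cfsg.pCore q S).subtype)).Normal := by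
    haveI h1 : ((Cfsg.pCore q S).map (QuotientGroup.mk'
        ((frattini ↥(Cfsg.pCore q S)).map (Cfsg.pCore q S).subtype))).Normal :=
      hQ₀n.map _ (QuotientGroup.mk'_surjective _)
    exact Subgroup.Normal.comap inferInstance _
  let D₁ : Subgroup S := D ⊓ Subgroup.centralizer (pc (Cfsg.fittingSubgroup S) q : Set S)
  haveI hD₁n : D₁.Normal := by
    haveI := hDn
    haveI := hF'n
    exact Subgroup.normal_inf_normal _ _
  have hxD₁ : x ∈ D₁ := ⟨hxD, Subgroup.mem_centralizer_iff.mpr (fun u hu => hxF' u hu)⟩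
  -- Step 4: a `q`-power of every element of `D₁` lies in the `q'`-part of `F(S)`
  have key : ∀ g ∈ D₁, ∃ N : ℕ, g ^ q ^ N ∈ pc (Cfsg.fittingSubgroup S) q := by
    intro g hg
    have h1 : g ^ q ^ k ∈ Cfsg.sectionKernel (Cfsg.pCore q S)
        ((frattini ↥(Cfsg.pCore q S)).map (Cfsg.pCore q S).subtype) := by
      have h2 := Subgroup.pow_index_mem ((Cfsg.sectionKernel (Cfsg.pCore q S)
        ((frattini ↥(Cfsg.pCore q S)).map (Cfsg.pCore q S).subtype)).subgroupOf D) ⟨g, hg.1⟩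
      have h3 : ((Cfsg.sectionKernel (Cfsg.pCore q S)
        ((frattini ↥(Cfsg.pCore q S)).map (Cfsg.pCore q S).subtype)).subgroupOf D).index = q ^ k := hk
      rw [h3] at h2
      have h4 := Subgroup.mem_subgroupOf.mp h2
      simpa using h4
    -- conjugation by `g ^ q ^ k` acts trivially on the Frattini quotient of `O_q(S)`
    have h5 : ∀ v ∈ Cfsg.pCore q S, v⁻¹ * (g ^ q ^ k) * v * (g ^ q ^ k)⁻¹ ∈
        (frattini ↥(Cfsg.pCore q S)).map (Cfsg.pCore q S).subtype := by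
      intro v hv
      have h6 := (Subgroup.mem_centralizer_iff.mp (Subgroup.mem_comap.mp h1))
        (QuotientGroup.mk' _ v) (Subgroup.mem_map_of_mem _ hv)
      have h7 : (v * g ^ q ^ k)⁻¹ * (g ^ q ^ k * v) ∈
          (frattini ↥(Cfsg.pCore q S)).map (Cfsg.pCore q S).subtype := by
        rw [← QuotientGroup.eq]
        simpa using h6
      have h8 := hΦn.conj_mem _ h7 (g ^ q ^ k)
      have e : g ^ q ^ k * ((v * g ^ q ^ k)⁻¹ * (g ^ q ^ k * v)) * (g ^ q ^ k)⁻¹ =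
          v⁻¹ * (g ^ q ^ k) * v * (g ^ q ^ k)⁻¹ := by group
      rw [e] at h8
      exact h8
    have hα : (MulAut.conjNormal (g ^ q ^ k) : MulAut ↥(Cfsg.pCore q S)) ∈
        Helper87.trivFrat ↥(Cfsg.pCore q S) := by
      rw [Helper87.mem_trivFrat]
      intro v
      obtain ⟨w, hw, hwe⟩ := h5 v v.2
      have e : v⁻¹ * (MulAut.conjNormal (g ^ q ^ k) : MulAut ↥(Cfsg.pCore q S)) v = w := by
        apply Subtype.ext
        rw [Subgroup.coe_mul, Subgroup.coe_inv, MulAut.conjNormal_apply]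
        rw [Subgroup.coe_subtype] at hwe
        rw [hwe]; group
      rw [e]; exact hw
    obtain ⟨j, hj⟩ := (Helper87.isPGroup_trivFrat hQ₀p) ⟨_, hα⟩
    have hj' : (MulAut.conjNormal ((g ^ q ^ k) ^ q ^ j) : MulAut ↥(Cfsg.pCore q S)) = 1 := by
      rw [map_pow]
      have := congrArg Subtype.val hj
      simpa using this
    -- `mm = (g ^ q ^ k) ^ q ^ j` centralizes `F(S)`
    have hmF : (g ^ q ^ k) ^ q ^ j ∈ Cfsg.fittingSubgroup S := by
      apply hFc
      rw [Subgroup.mem_centralizer_iff]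
      intro y hy
      obtain ⟨a, ha, b, hb, rfl⟩ := exists_decomp q hy
      have h9 : a * (g ^ q ^ k) ^ q ^ j = (g ^ q ^ k) ^ q ^ j * a := by
        have h10 : (g ^ q ^ k) ^ q ^ j ∈
            Subgroup.centralizer (pc (Cfsg.fittingSubgroup S) q : Set S) :=
          Subgroup.pow_mem _ (Subgroup.pow_mem _ hg.2 _) _
        exact (Subgroup.mem_centralizer_iff.mp h10) a ha
      have h11 : b * (g ^ q ^ k) ^ q ^ j = (g ^ q ^ k) ^ q ^ j * b := by
        have h12 := congrArg (fun α : MulAut ↥(Cfsg.pCore q S) =>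
          ((α ⟨b, hPQ hb⟩ : ↥(Cfsg.pCore q S)) : S)) hj'
        simp only [MulAut.conjNormal_apply, MulAut.one_apply] at h12
        calc b * (g ^ q ^ k) ^ q ^ j
            = ((g ^ q ^ k) ^ q ^ j * b * ((g ^ q ^ k) ^ q ^ j)⁻¹) * (g ^ q ^ k) ^ q ^ j := by
              rw [h12]
          _ = (g ^ q ^ k) ^ q ^ j * b := by group
      calc a * b * (g ^ q ^ k) ^ q ^ j = a * (b * (g ^ q ^ k) ^ q ^ j) := by group
        _ = a * ((g ^ q ^ k) ^ q ^ j * b) := by rw [h11]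
        _ = (a * (g ^ q ^ k) ^ q ^ j) * b := by group
        _ = (g ^ q ^ k) ^ q ^ j * a * b := by rw [h9]
        _ = (g ^ q ^ k) ^ q ^ j * (a * b) := by group
    obtain ⟨a, b, hab, ha, hb, hac, t, hbt⟩ := exists_decomp_elt q ((g ^ q ^ k) ^ q ^ j)
    have hzF : Subgroup.zpowers ((g ^ q ^ k) ^ q ^ j) ≤ Cfsg.fittingSubgroup S :=
      Subgroup.zpowers_le.mpr hmF
    have hcomm : Commute a b := by
      obtain ⟨i₁, rfl⟩ := Subgroup.mem_zpowers_iff.mp ha
      obtain ⟨i₂, rfl⟩ := Subgroup.mem_zpowers_iff.mp hb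
      exact Commute.zpow_zpow_self _ _ _
    have hpow : ((g ^ q ^ k) ^ q ^ j) ^ q ^ t = a ^ q ^ t := by
      conv_lhs => rw [hab]
      rw [hcomm.mul_pow, ← hbt, pow_orderOf_eq_one, mul_one]
    refine ⟨k + j + t, ?_⟩
    have e : g ^ q ^ (k + j + t) = ((g ^ q ^ k) ^ q ^ j) ^ q ^ t := by
      rw [pow_add, pow_add, pow_mul, pow_mul]
    rw [e, hpow]
    exact Subgroup.pow_mem _ (mem_pc (hzF ha) hac) _
  -- Step 5: `D₁` is nilpotent
  have hnil : Group.IsNilpotent D₁ := by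
    haveI := hF'n
    let Y : Subgroup D₁ := (pc (Cfsg.fittingSubgroup S) q).subgroupOf D₁
    haveI hYn : Y.Normal := Subgroup.normal_subgroupOf
    have hker : (QuotientGroup.mk' Y).ker ≤ Subgroup.center D₁ := by
      rw [QuotientGroup.ker_mk']
      intro y hy
      rw [Subgroup.mem_center_iff]
      intro d
      apply Subtype.ext
      have h1 : (y : S) ∈ pc (Cfsg.fittingSubgroup S) q := Subgroup.mem_subgroupOf.mp hy
      have h2 := (Subgroup.mem_centralizer_iff.mp d.2.2) _ h1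
      rw [Subgroup.coe_mul, Subgroup.coe_mul]
      exact h2.symm
    have hp : IsPGroup q (D₁ ⧸ Y) := by
      intro gbar
      obtain ⟨g, rfl⟩ := QuotientGroup.mk_surjective gbar
      obtain ⟨N, hN⟩ := key g g.2
      refine ⟨N, ?_⟩
      rw [← QuotientGroup.mk_pow, QuotientGroup.eq_one_iff]
      exact Subgroup.mem_subgroupOf.mpr (by simpa using hN)
    haveI : Group.IsNilpotent (D₁ ⧸ Y) := hp.isNilpotent
    exact Subgroup.isNilpotent_of_ker_le_center (QuotientGroup.mk' Y) hker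
  exact (le_sSup (show D₁ ∈ {N : Subgroup S | N.Normal ∧ Group.IsNilpotent N} from
    ⟨hD₁n, hnil⟩)) hxD₁

end Cfsg.Agent.Lib.Helper29.QuadFit
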