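import Mathlib
import Cfsg.Prelude.Def_OddOrderLocal
import Cfsg.Agent.Lib.Helper29.QuadFit
import Cfsg.Agent.Lib.Helper71.ClassSize

/-!
# Self-centralizing normal subgroups of `F(H)` for a Hall subgroup `H` of a solvable group

`mem_of_centralizer`: if `S` is finite solvable, `π` a set of primes `≥ 5`, `H` a Hall
`π`-subgroup and `A ∈ SCN(F(H))`, then every `q`-element (`q ∈ π`) of `C_S(A)` lies in `A`.
-/

set_option autoImplicit false

namespace Cfsg.Agent.Lib.Helper29.SCNHall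

open Cfsg.Agent.Lib.Helper29.WP

universe u

theorem pp_ne_bot_of_dvd' {G : Type u} [Group G] [Finite G] {X : Subgroup G} {p : ℕ}
    [Fact p.Prime] (ht : p ∣ Nat.card X) : pp X p ≠ ⊥ := by
  obtain ⟨y, hy⟩ := exists_prime_orderOf_dvd_card' p ht
  have hy' : orderOf (y : G) = p := by rw [Subgroup.orderOf_coe]; exact hy
  have hypp : (y : G) ∈ pp X p := mem_pp y.2 ⟨1, by rw [hy', pow_one]⟩
  intro h
  rw [h, Subgroup.mem_bot] at hypp
  rw [hypp, orderOf_one] at hy'
  exact (Fact.out : p.Prime).one_lt.ne hy'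

theorem le_fitting_map {S : Type u} [Group S] {H N : Subgroup S} (hNH : N ≤ H)
    (hnil : Group.IsNilpotent N) (hn : H ≤ Subgroup.normalizer (N : Set S)) :
    N ≤ (Cfsg.fittingSubgroup H).map H.subtype := by
  have h1 : (N.subgroupOf H).Normal := (Subgroup.normal_subgroupOf_iff_le_normalizer hNH).mpr hn
  have h2 : Group.IsNilpotent (N.subgroupOf H) :=
    Group.nilpotent_of_mulEquiv (Subgroup.subgroupOfEquivOfLe hNH).symm
  have h3 : N.subgroupOf H ≤ Cfsg.fittingSubgroup H := le_sSup ⟨h1, h2⟩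
  intro n hn'
  exact ⟨⟨n, hNH hn'⟩, h3 (Subgroup.mem_subgroupOf.mpr hn'), rfl⟩

/-- The case without nontrivial normal `π'`-subgroups. -/
theorem mem_of_no_normal {S : Type u} [Group S] [Finite S] [Group.IsSolvable S]
    (π : Set ℕ) (h2 : 2 ∉ π) (h3 : 3 ∉ π)
    (h0 : ∀ N : Subgroup S, N.Normal → (∀ p : ℕ, p.Prime → p ∣ Nat.card N → p ∉ π) → N = ⊥)
    (H : Subgroup S) (hH : Cfsg.IsPiHall π H) (F A : Subgroup S)
    (hF : ∀ N : Subgroup S, N ≤ H → Group.IsNilpotent N →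
      H ≤ Subgroup.normalizer (N : Set S) → N ≤ F)
    (hFA : F ≤ Subgroup.normalizer (A : Set S))
    (hFC : F ⊓ Subgroup.centralizer (A : Set S) ≤ A)
    {q : ℕ} (hq : q.Prime) (hqπ : q ∈ π) {x : S}
    (hxA : x ∈ Subgroup.centralizer (A : Set S)) {m : ℕ} (hx : x ^ q ^ m = 1) : x ∈ A := by
  have hq5 : 5 ≤ q := by
    have hq2 : q ≠ 2 := fun h => h2 (h ▸ hqπ)
    have hq3 : q ≠ 3 := fun h => h3 (h ▸ hqπ)
    have h2le := hq.two_le
    by_contra hlt
    have h4 : q = 4 := by omega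
    rw [h4] at hq
    exact absurd hq (by decide)
  have hFSn : (Cfsg.fittingSubgroup S).Normal := inferInstance
  have hFSnil : Group.IsNilpotent (Cfsg.fittingSubgroup S) :=
    Helper71.fittingSubgroup_isNilpotent
  -- `F(S)` is a `π`-group
  have hFSπ : ∀ p : ℕ, p.Prime → p ∣ Nat.card (Cfsg.fittingSubgroup S) → p ∈ π := by
    intro p hp hdvd
    by_contra hpπ
    haveI : Fact p.Prime := ⟨hp⟩
    have h1 : pp (Cfsg.fittingSubgroup S) p ≠ ⊥ := pp_ne_bot_of_dvd' hdvd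
    have h2' : (pp (Cfsg.fittingSubgroup S) p).Normal := by
      have h1 := normalizer_le_pp (Cfsg.fittingSubgroup S) p
      rw [Subgroup.normalizer_eq_top] at h1
      exact Subgroup.normalizer_eq_top_iff.mp (top_le_iff.mp h1)
    have h3' : IsPGroup p (pp (Cfsg.fittingSubgroup S) p) := isPGroup_pp hFSnil
    refine h1 (h0 _ h2' ?_)
    intro r hr hrd
    obtain ⟨k, hk⟩ := IsPGroup.iff_card.mp h3'
    rw [hk] at hrd
    have h4 := (Nat.prime_dvd_prime_iff_eq hr hp).mp (hr.dvd_of_dvd_pow hrd)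
    rw [h4]; exact hpπ
  have hFSH : Cfsg.fittingSubgroup S ≤ H := by
    apply Helper71.le_of_normal_of_coprime
    by_contra hnc
    obtain ⟨p, hp, hpd⟩ := Nat.exists_prime_and_dvd hnc
    exact hH.2 p hp (hFSπ p hp (hpd.trans (Nat.gcd_dvd_left _ _)))
      (hpd.trans (Nat.gcd_dvd_right _ _))
  have hFSF : Cfsg.fittingSubgroup S ≤ F :=
    hF _ hFSH hFSnil (by rw [Subgroup.normalizer_eq_top]; exact le_top)
  have hquad : ∀ u ∈ Cfsg.fittingSubgroup S,
      x * (u * x * u⁻¹ * x⁻¹) = (u * x * u⁻¹ * x⁻¹) * x := by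
    intro u hu
    have h1 : u * x * u⁻¹ * x⁻¹ ∈ Cfsg.fittingSubgroup S := by
      have h1' : x * u⁻¹ * x⁻¹ ∈ Cfsg.fittingSubgroup S :=
        hFSn.conj_mem _ (Subgroup.inv_mem _ hu) x
      have e : u * x * u⁻¹ * x⁻¹ = u * (x * u⁻¹ * x⁻¹) := by group
      rw [e]; exact Subgroup.mul_mem _ hu h1'
    have h2' : u * x * u⁻¹ ∈ Subgroup.centralizer (A : Set S) := by
      have huN : u ∈ Subgroup.normalizer (A : Set S) := hFA (hFSF hu)
      rw [Subgroup.mem_centralizer_iff]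
      intro a ha
      have ha' : u⁻¹ * a * u ∈ A := conj_mem_of_mem_normalizer' huN ha
      have hxa := (Subgroup.mem_centralizer_iff.mp hxA) _ ha'
      calc a * (u * x * u⁻¹) = u * ((u⁻¹ * a * u) * x) * u⁻¹ := by group
        _ = u * (x * (u⁻¹ * a * u)) * u⁻¹ := by rw [hxa]
        _ = u * x * u⁻¹ * a := by group
    have h3' : u * x * u⁻¹ * x⁻¹ ∈ Subgroup.centralizer (A : Set S) :=
      Subgroup.mul_mem _ h2' (Subgroup.inv_mem _ hxA)
    have h4 : u * x * u⁻¹ * x⁻¹ ∈ A := hFC ⟨hFSF h1, h3'⟩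
    exact ((Subgroup.mem_centralizer_iff.mp hxA) _ h4).symm
  have hxFS : x ∈ Cfsg.fittingSubgroup S := QuadFit.mem_fitting_of_quad hq hq5 hx hquad
  exact hFC ⟨hFSF hxFS, hxA⟩

/-- Every `q`-element (`q ∈ π`) of `C_S(A)` lies in `A`. -/
theorem mem_of_centralizer {S : Type u} [Group S] [Finite S] [Group.IsSolvable S]
    (π : Set ℕ) (h2 : 2 ∉ π) (h3 : 3 ∉ π) (H : Subgroup S) (hH : Cfsg.IsPiHall π H)
    (A : Subgroup S) (hA : Cfsg.IsSCN ((Cfsg.fittingSubgroup H).map H.subtype) A)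
    {q : ℕ} (hq : q.Prime) (hqπ : q ∈ π) {x : S}
    (hxA : x ∈ Subgroup.centralizer (A : Set S)) {m : ℕ} (hx : x ^ q ^ m = 1) : x ∈ A := by
  classical
  obtain ⟨hAF, hFA, hFC⟩ := hA
  have hFH : (Cfsg.fittingSubgroup H).map H.subtype ≤ H := Subgroup.map_subtype_le _
  -- a maximal normal `π'`-subgroup
  let P : Subgroup S → Prop :=
    fun N => N.Normal ∧ ∀ p : ℕ, p.Prime → p ∣ Nat.card N → p ∉ π
  have hPbot : P ⊥ := ⟨inferInstance, fun p hp hd => by
    rw [Subgroup.card_bot] at hd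
    exact absurd (Nat.dvd_one.mp hd) hp.ne_one⟩
  obtain ⟨R, -, hRmax⟩ := Finite.exists_le_maximal hPbot
  obtain ⟨hRn, hRπ⟩ := hRmax.prop
  haveI := hRn
  have hφs : Function.Surjective (QuotientGroup.mk' R) := QuotientGroup.mk'_surjective R
  have hHR : ∀ y ∈ H, y ∈ R → y = 1 := by
    intro y hyH hyR
    by_contra hne
    have h1 : orderOf y ≠ 1 := fun h => hne (orderOf_eq_one_iff.mp h)
    obtain ⟨p, hp, hpd⟩ := Nat.exists_prime_and_dvd h1
    exact hRπ p hp (hpd.trans (Subgroup.orderOf_dvd_natCard R hyR))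
      (hH.1 p hp (hpd.trans (Subgroup.orderOf_dvd_natCard H hyH)))
  -- the quotient has no nontrivial normal `π'`-subgroup
  have h0 : ∀ N : Subgroup (S ⧸ R), N.Normal →
      (∀ p : ℕ, p.Prime → p ∣ Nat.card N → p ∉ π) → N = ⊥ := by
    intro N hN hNπ
    have hc : Nat.card (N.comap (QuotientGroup.mk' R)) = Nat.card N * Nat.card R := by
      have e1 := Subgroup.card_mul_index (N.comap (QuotientGroup.mk' R))
      rw [Subgroup.index_comap_of_surjective N hφs] at e1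
      have e2 := Subgroup.card_mul_index N
      have e3 := Subgroup.card_eq_card_quotient_mul_card_subgroup R
      have hpos : 0 < N.index := Nat.pos_of_ne_zero Subgroup.index_ne_zero_of_finite
      apply Nat.eq_of_mul_eq_mul_right hpos
      rw [e1, e3, ← e2]; ring
    have h1 : P (N.comap (QuotientGroup.mk' R)) := by
      refine ⟨hN.comap _, ?_⟩
      intro p hp hd
      rw [hc] at hd
      rcases (Nat.Prime.dvd_mul hp).mp hd with h | h
      · exact hNπ p hp h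
      · exact hRπ p hp h
    have h2' : R ≤ N.comap (QuotientGroup.mk' R) := by
      intro r hr
      rw [Subgroup.mem_comap]
      have h3' : QuotientGroup.mk' R r = 1 := (QuotientGroup.eq_one_iff r).mpr hr
      rw [h3']; exact N.one_mem
    have h3' : N.comap (QuotientGroup.mk' R) ≤ R := hRmax.le_of_ge h1 h2'
    rw [eq_bot_iff]
    intro n hn
    obtain ⟨s, rfl⟩ := hφs n
    have h4 : s ∈ R := h3' (Subgroup.mem_comap.mpr hn)
    exact Subgroup.mem_bot.mpr ((QuotientGroup.eq_one_iff s).mpr h4)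
  have hHb : Cfsg.IsPiHall π (H.map (QuotientGroup.mk' R)) :=
    ⟨fun p hp hd => hH.1 p hp (hd.trans (Subgroup.card_map_dvd H _)),
      fun p hp hpπ hd => hH.2 p hp hpπ (hd.trans (Subgroup.index_map_dvd H hφs))⟩
  have hFb : ∀ N : Subgroup (S ⧸ R), N ≤ H.map (QuotientGroup.mk' R) → Group.IsNilpotent N →
      H.map (QuotientGroup.mk' R) ≤ Subgroup.normalizer (N : Set (S ⧸ R)) →
      N ≤ ((Cfsg.fittingSubgroup H).map H.subtype).map (QuotientGroup.mk' R) := by
    intro N hNH hNnil hNn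
    have hN₀H : N.comap (QuotientGroup.mk' R) ⊓ H ≤ H := inf_le_right
    have hN₀n : H ≤ Subgroup.normalizer ((N.comap (QuotientGroup.mk' R) ⊓ H : Subgroup S) : Set S) := by
      rw [Subgroup.le_normalizer_iff]
      intro h hh k hk
      refine ⟨?_, H.mul_mem (H.mul_mem hh hk.2) (H.inv_mem hh)⟩
      show QuotientGroup.mk' R (h * k * h⁻¹) ∈ N
      rw [map_mul, map_mul, map_inv]
      exact conj_mem_of_mem_normalizer (hNn (Subgroup.mem_map_of_mem _ hh)) hk.1
    have hN₀nil : Group.IsNilpotent (N.comap (QuotientGroup.mk' R) ⊓ H : Subgroup S) := by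
      let ψ : (N.comap (QuotientGroup.mk' R) ⊓ H : Subgroup S) →* N :=
        ((QuotientGroup.mk' R).comp (Subgroup.subtype _)).codRestrict N (fun y => y.2.1)
      have hψ : ψ.ker ≤ Subgroup.center (N.comap (QuotientGroup.mk' R) ⊓ H : Subgroup S) := by
        intro y hy
        have h1 : QuotientGroup.mk' R (y : S) = 1 := by
          have h1' := congrArg Subtype.val (MonoidHom.mem_ker.mp hy)
          exact h1'
        have h2' : (y : S) = 1 := hHR _ y.2.2 ((QuotientGroup.eq_one_iff _).mp h1)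
        have h3' : y = 1 := Subtype.ext h2'
        rw [h3']; exact Subgroup.one_mem _
      exact Subgroup.isNilpotent_of_ker_le_center ψ hψ
    have h1 : N.comap (QuotientGroup.mk' R) ⊓ H ≤ (Cfsg.fittingSubgroup H).map H.subtype :=
      le_fitting_map hN₀H hN₀nil hN₀n
    intro n hn
    obtain ⟨h, hh, rfl⟩ := hNH hn
    exact ⟨h, h1 ⟨hn, hh⟩, rfl⟩
  have hFAb : ((Cfsg.fittingSubgroup H).map H.subtype).map (QuotientGroup.mk' R) ≤
      Subgroup.normalizer ((A.map (QuotientGroup.mk' R) : Subgroup (S ⧸ R)) : Set (S ⧸ R)) := by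
    rw [Subgroup.le_normalizer_iff]
    rintro _ ⟨f, hf, rfl⟩ _ ⟨a, ha, rfl⟩
    exact ⟨f * a * f⁻¹, conj_mem_of_mem_normalizer (hFA hf) ha, by simp⟩
  have hFCb : ((Cfsg.fittingSubgroup H).map H.subtype).map (QuotientGroup.mk' R) ⊓
      Subgroup.centralizer ((A.map (QuotientGroup.mk' R) : Subgroup (S ⧸ R)) : Set (S ⧸ R)) ≤
      A.map (QuotientGroup.mk' R) := by
    rintro _ ⟨⟨f, hf, rfl⟩, hc⟩
    refine ⟨f, ?_, rfl⟩
    have hfc : f ∈ Subgroup.centralizer (A : Set S) := by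
      rw [Subgroup.mem_centralizer_iff]
      intro a ha
      have h1 := (Subgroup.mem_centralizer_iff.mp hc) (QuotientGroup.mk' R a) ⟨a, ha, rfl⟩
      have h2' : f * a * f⁻¹ ∈ A := conj_mem_of_mem_normalizer (hFA hf) ha
      have h3' : f * a * f⁻¹ * a⁻¹ ∈ R := by
        rw [← QuotientGroup.eq_one_iff]
        show QuotientGroup.mk' R (f * a * f⁻¹ * a⁻¹) = 1
        rw [map_mul, map_mul, map_mul, map_inv, map_inv, ← h1]; group
      have h4 : f * a * f⁻¹ * a⁻¹ = 1 :=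
        hHR _ (H.mul_mem (hFH (hAF h2')) (H.inv_mem (hFH (hAF ha)))) h3'
      calc a * f = (f * a * f⁻¹ * a⁻¹)⁻¹ * (f * a) := by group
        _ = f * a := by rw [h4]; simp
    rw [← hFC]
    exact ⟨hf, hfc⟩
  have hxb : QuotientGroup.mk' R x ∈
      Subgroup.centralizer ((A.map (QuotientGroup.mk' R) : Subgroup (S ⧸ R)) : Set (S ⧸ R)) := by
    rw [Subgroup.mem_centralizer_iff]
    rintro _ ⟨a, ha, rfl⟩
    rw [← map_mul, ← map_mul, (Subgroup.mem_centralizer_iff.mp hxA) a ha]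
  have hxb' : (QuotientGroup.mk' R x) ^ q ^ m = 1 := by rw [← map_pow, hx, map_one]
  obtain ⟨a, ha, hax⟩ := mem_of_no_normal π h2 h3 h0 _ hHb _ _ hFb hFAb hFCb hq hqπ hxb hxb'
  have hr : a⁻¹ * x ∈ R := QuotientGroup.eq.mp hax
  have hcomm : a * x = x * a := (Subgroup.mem_centralizer_iff.mp hxA) a ha
  have hpow : (a⁻¹ * x) ^ q ^ m = (a ^ q ^ m)⁻¹ := by
    have hc : Commute a⁻¹ x := (show Commute a x from hcomm).inv_left
    rw [hc.mul_pow, hx, mul_one, inv_pow]
  have h1 : (a⁻¹ * x) ^ q ^ m = 1 := by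
    apply hHR
    · rw [hpow]; exact H.inv_mem (H.pow_mem (hFH (hAF ha)) _)
    · exact R.pow_mem hr _
  have h2' : orderOf (a⁻¹ * x) ∣ q ^ m := orderOf_dvd_of_pow_eq_one h1
  have h3' : orderOf (a⁻¹ * x) ∣ Nat.card R := Subgroup.orderOf_dvd_natCard R hr
  have h4 : orderOf (a⁻¹ * x) = 1 := by
    by_contra hne
    obtain ⟨p, hp, hpd⟩ := Nat.exists_prime_and_dvd hne
    have hpq : p = q := (Nat.prime_dvd_prime_iff_eq hp hq).mp (hp.dvd_of_dvd_pow (hpd.trans h2'))
    exact hRπ p hp (hpd.trans h3') (hpq ▸ hqπ)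
  have h5 : a⁻¹ * x = 1 := orderOf_eq_one_iff.mp h4
  have h6 : x = a := by rw [inv_mul_eq_one] at h5; exact h5.symm
  rw [h6]; exact ha

end Cfsg.Agent.Lib.Helper29.SCNHall
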