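import Mathlib
import Cfsg.Agent.Lib.Helper29.WPBasic
import Cfsg.Agent.Lib.Helper48.Generation
import Cfsg.Agent.Lib.Helper54.Frobenius

/-!
# Wielandt's theorem on products of nilpotent groups of coprime orders: local analysis

In a minimal counterexample `G = AB` both factors are TI-subgroups, which is impossible by
counting.
-/

set_option autoImplicit false

namespace Cfsg.Agent.Lib.Helper29.WP

open scoped Pointwise

universe u

variable {G : Type u} [Group G]

/-- `z` is a central element of `A`. -/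
def Cen (A : Subgroup G) (z : G) : Prop := z ∈ A ∧ ∀ x ∈ A, x * z = z * x

theorem mem_centralizer_singleton {x y : G} (h : y * x = x * y) :
    x ∈ Subgroup.centralizer ({y} : Set G) :=
  Subgroup.mem_centralizer_iff.mpr fun w hw => by
    rw [Set.mem_singleton_iff] at hw; rw [hw]; exact h

theorem comm_of_mem_centralizer_singleton {x y : G}
    (h : x ∈ Subgroup.centralizer ({y} : Set G)) : y * x = x * y :=
  Subgroup.mem_centralizer_iff.mp h y (Set.mem_singleton y)

theorem ne_one_of_orderOf_prime {z : G} {p : ℕ} (hp : p.Prime) (h : orderOf z = p) : z ≠ 1 := by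
  rintro rfl
  rw [orderOf_one] at h
  exact hp.one_lt.ne h

theorem orderOf_conj (g x : G) : orderOf (g * x * g⁻¹) = orderOf x :=
  orderOf_injective (MulAut.conj g).toMonoidHom (MulAut.conj g).injective x

theorem orderOf_conj' (g x : G) : orderOf (g⁻¹ * x * g) = orderOf x := by
  have h := orderOf_conj g⁻¹ x
  rwa [inv_inv] at h

namespace Cfg

variable [Finite G] {A B : Subgroup G}

/-- The centralizer of a nontrivial central element of `A` lies in `A`. -/
theorem cent_le (h : Cfg A B) {z : G} (hz : Cen A z) (hz1 : z ≠ 1) :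
    Subgroup.centralizer ({z} : Set G) ≤ A := by
  intro g hg
  obtain ⟨a, ha, b, hb, e⟩ := h.fac g
  have h1 : z * g = g * z := comm_of_mem_centralizer_singleton hg
  have h2 : a * z = z * a := hz.2 a ha
  have hb' : b = a⁻¹ * g := by rw [e, inv_mul_cancel_left]
  have hbz : z * b = b * z := by
    rw [hb']
    calc z * (a⁻¹ * g) = a⁻¹ * (a * z) * (a⁻¹ * g) := by group
      _ = a⁻¹ * (z * a) * (a⁻¹ * g) := by rw [h2]
      _ = a⁻¹ * (z * g) := by group
      _ = a⁻¹ * (g * z) := by rw [h1]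
      _ = a⁻¹ * g * z := by group
  obtain ⟨w, hw, hw1, hwc⟩ := exists_central h.nilB h.B_ne_bot
  have hgen := h.gen (val_zpowers hz.1 hz1 hz.2) (val_zpowers hw hw1 hwc)
  have hbc : b ∈ Subgroup.center G := by
    have h3 : Subgroup.zpowers z ⊔ Subgroup.zpowers w ≤ Subgroup.centralizer ({b} : Set G) :=
      sup_le (Subgroup.zpowers_le.mpr (mem_centralizer_singleton hbz.symm))
        (Subgroup.zpowers_le.mpr (mem_centralizer_singleton (hwc b hb)))
    rw [hgen] at h3
    rw [Subgroup.mem_center_iff]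
    intro x
    exact (comm_of_mem_centralizer_singleton (h3 (Subgroup.mem_top x))).symm
  rw [h.center_eq_bot, Subgroup.mem_bot] at hbc
  rw [e, hbc, mul_one]; exact ha

/-- A nontrivial central element of `A` normalizes no nontrivial `s`-subgroup, `s ∣ |B|`. -/
theorem no_norm (h : Cfg A B) {z : G} (hz : Cen A z) (hz1 : z ≠ 1) {s : ℕ} [Fact s.Prime]
    (hs : s ∣ Nat.card B) {S : Subgroup G} (hSp : IsPGroup s S)
    (hzS : z ∈ Subgroup.normalizer (S : Set G)) : S = ⊥ := by
  by_contra hSne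
  have hsp : s.Prime := Fact.out
  obtain ⟨k, hk⟩ := IsPGroup.iff_card.mp hSp
  have hsA : ¬ s ∣ Nat.card A := fun hsA =>
    hsp.ne_one (Nat.eq_one_of_dvd_coprimes h.cop hsA hs)
  have hSc : (Nat.card S).Coprime (Nat.card A) := by
    rw [hk]; exact Nat.Coprime.pow_left k ((Nat.Prime.coprime_iff_not_dvd hsp).mpr hsA)
  obtain ⟨a, ha, hSa⟩ := h.symm.wiel hSc
  have hS'B : MulAut.conj a⁻¹ • S ≤ B := by
    intro y hy
    rw [Helper1.mem_conj_smul, inv_inv] at hy
    have h1 := hSa hy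
    rw [Helper1.mem_conj_smul] at h1
    simpa [mul_assoc] using h1
  have hS'c : Nat.card (MulAut.conj a⁻¹ • S : Subgroup G) = Nat.card S :=
    Helper1.card_conj_smul S a⁻¹
  have hS'p : IsPGroup s (MulAut.conj a⁻¹ • S : Subgroup G) := IsPGroup.of_card (hS'c.trans hk)
  have hS'ne : MulAut.conj a⁻¹ • S ≠ ⊥ := by
    intro hb
    apply hSne
    rw [← Subgroup.card_eq_one, ← hS'c, hb, Subgroup.card_bot]
  have hzS' : z ∈ Subgroup.normalizer ((MulAut.conj a⁻¹ • S : Subgroup G) : Set G) := by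
    refine mem_normalizer_of_conj_smul_eq ?_
    rw [← mul_smul, ← map_mul]
    have h1 : z * a⁻¹ = a⁻¹ * z := by
      have h2 := hz.2 a ha
      calc z * a⁻¹ = a⁻¹ * (a * z) * a⁻¹ := by group
        _ = a⁻¹ * (z * a) * a⁻¹ := by rw [h2]
        _ = a⁻¹ * z := by group
    rw [h1, map_mul, mul_smul, conj_smul_eq_of_mem_normalizer hzS]
  have h1 : pc B s ≤ Subgroup.normalizer ((MulAut.conj a⁻¹ • S : Subgroup G) : Set G) :=
    pc_le_normalizer h.nilB hS'B hS'p
  have h2 : Subgroup.zpowers z ≤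
      Subgroup.normalizer ((MulAut.conj a⁻¹ • S : Subgroup G) : Set G) :=
    Subgroup.zpowers_le.mpr hzS'
  have h3 : Subgroup.normalizer ((MulAut.conj a⁻¹ • S : Subgroup G) : Set G) = ⊤ :=
    top_le_iff.mp ((h.gen (val_zpowers hz.1 hz1 hz.2) (h.symm.val_pc s)) ▸ sup_le h2 h1)
  exact hS'ne (h.eq_bot_of_normalizer h3
    (fun htop => h.B_ne_top (top_le_iff.mp (htop ▸ hS'B))))

/-- The normalizer of the `p'`-part of `A` normalizes `A`. -/
theorem normalizer_pc_le (h : Cfg A B) (p : ℕ) [Fact p.Prime] :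
    Subgroup.normalizer (pc A p : Set G) ≤ Subgroup.normalizer (A : Set G) := by
  intro g hg
  have hnil : Group.IsNilpotent (pc A p) := Helper91.isNilpotent_of_le h.nilA (pc_le A p)
  obtain ⟨c, hc, hc1, hcc⟩ := exists_central hnil (h.pcA_ne_bot p)
  have hcA : Cen A c := ⟨pc_le A p hc, central_of_central_pc h.nilA hc hcc⟩
  have hc' : g * c * g⁻¹ ∈ pc A p := conj_mem_of_mem_normalizer hg hc
  have hc'c : ∀ w ∈ pc A p, w * (g * c * g⁻¹) = (g * c * g⁻¹) * w := by
    intro w hw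
    have hw' : g⁻¹ * w * g ∈ pc A p := conj_mem_of_mem_normalizer' hg hw
    have h1 := hcc _ hw'
    calc w * (g * c * g⁻¹) = g * ((g⁻¹ * w * g) * c) * g⁻¹ := by group
      _ = g * (c * (g⁻¹ * w * g)) * g⁻¹ := by rw [h1]
      _ = (g * c * g⁻¹) * w := by group
  have hcA' : Cen A (g * c * g⁻¹) := ⟨pc_le A p hc', central_of_central_pc h.nilA hc' hc'c⟩
  have hc'1 : g * c * g⁻¹ ≠ 1 := by
    intro e
    apply hc1
    have h1 := congrArg (fun z => g⁻¹ * z * g) e
    simpa [mul_assoc] using h1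
  refine mem_normalizer_of_conj_smul_eq (conj_smul_eq_of_le ?_ le_rfl)
  intro y hy
  rw [Helper1.mem_conj_smul] at hy
  apply h.cent_le hcA' hc'1
  refine mem_centralizer_singleton ?_
  have h1 := hcA.2 _ hy
  calc g * c * g⁻¹ * y = g * (c * (g⁻¹ * y * g)) * g⁻¹ := by group
    _ = g * ((g⁻¹ * y * g) * c) * g⁻¹ := by rw [h1]
    _ = y * (g * c * g⁻¹) := by group

/-- A conjugate of `A` containing a central element of prime order of `A` equals `A`. -/
theorem conj_eq_of_mem (h : Cfg A B) {z : G} (hz : Cen A z) {p : ℕ} [Fact p.Prime]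
    (hzp : orderOf z = p) {g : G} (hzg : z ∈ MulAut.conj g • A) :
    g ∈ Subgroup.normalizer (A : Set G) := by
  have hz1 : z ≠ 1 := ne_one_of_orderOf_prime Fact.out hzp
  obtain ⟨b, hb, a, ha, e⟩ := h.symm.fac g
  have hzb : b⁻¹ * z * b ∈ A := by
    rw [e, map_mul, mul_smul, Helper1.conj_smul_eq_self A a ha, Helper1.mem_conj_smul] at hzg
    exact hzg
  have hzbp : b⁻¹ * z * b ∈ pp A p :=
    mem_pp hzb ⟨1, by rw [orderOf_conj', hzp, pow_one]⟩
  have h1 : MulAut.conj b • pc A p ≤ pc A p := by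
    have h2 : MulAut.conj b • pc A p ≤ A := by
      intro y hy
      rw [Helper1.mem_conj_smul] at hy
      apply h.cent_le hz hz1
      refine mem_centralizer_singleton ?_
      have h3 := commute_pp_pc h.nilA hzbp hy
      calc z * y = b * ((b⁻¹ * z * b) * (b⁻¹ * y * b)) * b⁻¹ := by group
        _ = b * ((b⁻¹ * y * b) * (b⁻¹ * z * b)) * b⁻¹ := by rw [h3]
        _ = y * z := by group
    refine le_pc_of_card h2 ?_
    rw [Helper1.card_conj_smul]; exact card_pc_coprime h.nilA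
  have hbN : b ∈ Subgroup.normalizer (A : Set G) :=
    h.normalizer_pc_le p (mem_normalizer_of_conj_smul_eq (conj_smul_eq_of_le h1 le_rfl))
  rw [e]
  exact Subgroup.mul_mem _ hbN (Subgroup.le_normalizer ha)

/-- A solvable subgroup containing a central element of prime order of `A` normalizes `A`. -/
theorem sol_le (h : Cfg A B) {K : Subgroup G} (hK : Group.IsSolvable K) {z : G} (hz : Cen A z)
    {p : ℕ} [Fact p.Prime] (hzp : orderOf z = p) (hzK : z ∈ K) :
    K ≤ Subgroup.normalizer (A : Set G) := by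
  have hp : p.Prime := Fact.out
  have hz1 : z ≠ 1 := ne_one_of_orderOf_prime hp hzp
  obtain ⟨F, hFK, hFn, hFnil, hFc⟩ := exists_fitting K hK
  have hFcop : (Nat.card F).Coprime (Nat.card B) := by
    refine Nat.coprime_of_dvd fun s hs hsF hsB => ?_
    haveI : Fact s.Prime := ⟨hs⟩
    have h1 : pp F s = ⊥ :=
      h.no_norm hz hz1 hsB (isPGroup_pp hFnil) (normalizer_le_pp F s (hFn hzK))
    exact pp_ne_bot_of_dvd hsF h1
  have hpA : p ∣ Nat.card A := hzp ▸ Subgroup.orderOf_dvd_natCard A hz.1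
  have hpB : ¬ p ∣ Nat.card B := fun hpB =>
    hp.ne_one (Nat.eq_one_of_dvd_coprimes h.cop hpA hpB)
  have hzn : Subgroup.zpowers z ≤ Subgroup.normalizer (F : Set G) :=
    Subgroup.zpowers_le.mpr (hFn hzK)
  have h1 := Helper91.card_sup_mul_card_inf_of_le_normalizer F (Subgroup.zpowers z) hzn
  have h2 : (Nat.card (F ⊔ Subgroup.zpowers z : Subgroup G)).Coprime (Nat.card B) := by
    refine Nat.Coprime.coprime_dvd_left (Dvd.intro _ h1) (Nat.Coprime.mul_left hFcop ?_)
    rw [Nat.card_zpowers, hzp]; exact (Nat.Prime.coprime_iff_not_dvd hp).mpr hpB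
  obtain ⟨b, hb, hle⟩ := h.wiel h2
  have hbN : b ∈ Subgroup.normalizer (A : Set G) :=
    h.conj_eq_of_mem hz hzp (hle (Subgroup.mem_sup_right (Subgroup.mem_zpowers z)))
  rw [conj_smul_eq_of_mem_normalizer hbN] at hle
  have hFA : F ≤ A := le_sup_left.trans hle
  have hzF : z ∈ F := hFc z hzK fun y hy => hz.2 y (hFA hy)
  intro k hk
  have h3 : k * z * k⁻¹ ∈ A := hFA (conj_mem_of_mem_normalizer (hFn hk) hzF)
  have h4 : z ∈ MulAut.conj k⁻¹ • A := by
    rw [Helper1.mem_conj_smul, inv_inv]; exact h3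
  have h5 := Subgroup.inv_mem _ (h.conj_eq_of_mem hz hzp h4)
  rwa [inv_inv] at h5

/-- The centralizer of a nontrivial element of `B ∩ N_G(A)` normalizes `B`. -/
theorem cent_le_normalizer (h : Cfg A B) {y : G} (hyB : y ∈ B)
    (hyN : y ∈ Subgroup.normalizer (A : Set G)) (hy1 : y ≠ 1) :
    Subgroup.centralizer ({y} : Set G) ≤ Subgroup.normalizer (B : Set G) := by
  have hfac : ∀ g ∈ Subgroup.centralizer ({y} : Set G),
      ∃ a ∈ A ⊓ Subgroup.centralizer ({y} : Set G),
        ∃ b ∈ B ⊓ Subgroup.centralizer ({y} : Set G), g = a * b := by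
    intro g hg
    obtain ⟨a, ha, b, hb, e⟩ := h.fac g
    have hyg : y * g = g * y := comm_of_mem_centralizer_singleton hg
    have h2 : (y * a * y⁻¹) * (y * b * y⁻¹) = a * b := by
      calc (y * a * y⁻¹) * (y * b * y⁻¹) = y * (a * b) * y⁻¹ := by group
        _ = y * g * y⁻¹ := by rw [e]
        _ = g * y * y⁻¹ := by rw [hyg]
        _ = a * b := by rw [mul_inv_cancel_right, e]
    have h1 : a⁻¹ * (y * a * y⁻¹) = b * (y * b * y⁻¹)⁻¹ := by
      rw [inv_mul_eq_iff_eq_mul, ← mul_assoc, ← h2, mul_inv_cancel_right]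
    have h3 : a⁻¹ * (y * a * y⁻¹) = 1 :=
      h.eq_one_of_mem (A.mul_mem (A.inv_mem ha) (conj_mem_of_mem_normalizer hyN ha))
        (by rw [h1]; exact B.mul_mem hb (B.inv_mem (B.mul_mem (B.mul_mem hyB hb) (B.inv_mem hyB))))
    have h4 : y * a * y⁻¹ = a := (inv_mul_eq_one.mp h3).symm
    have hya : y * a = a * y := mul_inv_eq_iff_eq_mul.mp h4
    have hb' : b = a⁻¹ * g := by rw [e, inv_mul_cancel_left]
    have hyb : y * b = b * y := by
      rw [hb']
      calc y * (a⁻¹ * g) = a⁻¹ * (a * y) * (a⁻¹ * g) := by group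
        _ = a⁻¹ * (y * a) * (a⁻¹ * g) := by rw [hya]
        _ = a⁻¹ * (y * g) := by group
        _ = a⁻¹ * (g * y) := by rw [hyg]
        _ = a⁻¹ * g * y := by group
    exact ⟨a, ⟨ha, mem_centralizer_singleton hya⟩, b, ⟨hb, mem_centralizer_singleton hyb⟩, e⟩
  have hLt : Subgroup.centralizer ({y} : Set G) ≠ ⊤ := by
    intro htop
    apply hy1
    have h1 : y ∈ Subgroup.center G := by
      rw [Subgroup.mem_center_iff]
      intro x
      exact (comm_of_mem_centralizer_singleton (htop ▸ Subgroup.mem_top x)).symm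
    rwa [h.center_eq_bot, Subgroup.mem_bot] at h1
  have hsol := h.IH _ hLt hfac
  have hB1 : Nat.card B ≠ 1 := fun hc => h.B_ne_bot (Subgroup.card_eq_one.mp hc)
  obtain ⟨q, hq, hqB⟩ := Nat.exists_prime_and_dvd hB1
  haveI : Fact q.Prime := ⟨hq⟩
  obtain ⟨w, hw, hwq, hwc⟩ := exists_central_prime h.nilB hqB
  exact h.symm.sol_le hsol ⟨pp_le B q hw, hwc⟩ hwq (mem_centralizer_singleton (hwc y hyB))

/-- The Frobenius condition for `t` in a subgroup `K` with `K ∩ N_G(A) ≤ A` containing the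
`t'`-part of `A` and a central element of order `t`. -/
theorem frob_cond (h : Cfg A B) {t : ℕ} [Fact t.Prime] {K : Subgroup G} (hpcK : pc A t ≤ K)
    {z : G} (hz : Cen A z) (hzt : orderOf z = t) (hzK : z ∈ K)
    (hRA : K ⊓ Subgroup.normalizer (A : Set G) ≤ A) : Helper54.FrobeniusCondition t K := by
  have ht : t.Prime := Fact.out
  have htA : t ∣ Nat.card A := hzt ▸ Subgroup.orderOf_dvd_natCard A hz.1
  have htB : ¬ t ∣ Nat.card B := fun htB =>
    ht.ne_one (Nat.eq_one_of_dvd_coprimes h.cop htA htB)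
  have hzP : IsPGroup t (Subgroup.zpowers (⟨z, hzK⟩ : K)) := by
    rw [IsPGroup.iff_card, Nat.card_zpowers, Subgroup.orderOf_mk, hzt]
    exact ⟨1, (pow_one t).symm⟩
  obtain ⟨P, hP⟩ := hzP.exists_le_sylow
  have hPA : (P : Subgroup K).map K.subtype ≤ A := by
    have hPp : IsPGroup t ((P : Subgroup K).map K.subtype) := P.2.map K.subtype
    obtain ⟨k, hk⟩ := IsPGroup.iff_card.mp hPp
    have hPc : (Nat.card ((P : Subgroup K).map K.subtype)).Coprime (Nat.card B) := by
      rw [hk]; exact Nat.Coprime.pow_left k ((Nat.Prime.coprime_iff_not_dvd ht).mpr htB)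
    obtain ⟨b, hb, hle⟩ := h.wiel hPc
    have hzmem : z ∈ (P : Subgroup K).map K.subtype :=
      ⟨⟨z, hzK⟩, hP (Subgroup.mem_zpowers _), rfl⟩
    have hbN := h.conj_eq_of_mem hz hzt (hle hzmem)
    rwa [conj_smul_eq_of_mem_normalizer hbN] at hle
  refine Helper54.frobeniusCondition_of_le_sylow P ?_
  intro Q hQP g hg hgt
  have hUA : Q.map K.subtype ≤ A := (Subgroup.map_mono hQP).trans hPA
  have hUp : IsPGroup t (Q.map K.subtype) := (P.2.to_le hQP).map K.subtype
  have hUpp : Q.map K.subtype ≤ pp A t := le_pp_of_isPGroup hUA hUp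
  have hgU : ∀ q ∈ Q.map K.subtype, (g : G) * q * (g : G)⁻¹ ∈ Q.map K.subtype := by
    rintro _ ⟨q, hq, rfl⟩
    exact ⟨g * q * g⁻¹, (Subgroup.mem_normalizer_iff.mp hg q).mp hq, rfl⟩
  have hgU' : ∀ q ∈ Q.map K.subtype, (g : G)⁻¹ * q * (g : G) ∈ Q.map K.subtype := by
    rintro _ ⟨q, hq, rfl⟩
    exact ⟨g⁻¹ * q * g, (Subgroup.mem_normalizer_iff''.mp hg q).mp hq, rfl⟩
  have hpcC : pc A t ≤ Subgroup.centralizer ((Q.map K.subtype : Subgroup G) : Set G) ⊓ K :=
    le_inf (fun w hw => Subgroup.mem_centralizer_iff.mpr fun q hq =>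
      commute_pp_pc h.nilA (hUpp hq) hw) hpcK
  have hgC : MulAut.conj (g : G) • pc A t ≤
      Subgroup.centralizer ((Q.map K.subtype : Subgroup G) : Set G) ⊓ K := by
    intro y hy
    rw [Helper1.mem_conj_smul] at hy
    have hyC := hpcC hy
    refine Subgroup.mem_inf.mpr ⟨?_, ?_⟩
    · rw [Subgroup.mem_centralizer_iff]
      intro q hq
      have h1 := Subgroup.mem_centralizer_iff.mp hyC.1 _ (hgU' q hq)
      calc q * y = g * (((g : G)⁻¹ * q * g) * ((g : G)⁻¹ * y * g)) * (g : G)⁻¹ := by group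
        _ = g * (((g : G)⁻¹ * y * g) * ((g : G)⁻¹ * q * g)) * (g : G)⁻¹ := by rw [h1]
        _ = y * q := by group
    · have h1 := K.mul_mem (K.mul_mem g.2 hyC.2) (K.inv_mem g.2)
      have e : (g : G) * ((g : G)⁻¹ * y * g) * (g : G)⁻¹ = y := by group
      rwa [e] at h1
  obtain ⟨x, hxC, hxle⟩ := rel_wielandt hpcC (Helper91.isNilpotent_of_le h.nilA (pc_le A t))
    (h.hall_pc t hpcC) hgC (fun p _ hpd => by rwa [Helper1.card_conj_smul] at hpd)
  have h1 : MulAut.conj (x⁻¹ * (g : G)) • pc A t ≤ pc A t := by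
    rw [map_mul, mul_smul]
    intro y hy
    rw [Helper1.mem_conj_smul, inv_inv] at hy
    have h2 := hxle hy
    rw [Helper1.mem_conj_smul] at h2
    simpa [mul_assoc] using h2
  have h2 : x⁻¹ * (g : G) ∈ Subgroup.normalizer (A : Set G) :=
    h.normalizer_pc_le t (mem_normalizer_of_conj_smul_eq (conj_smul_eq_of_le h1 le_rfl))
  have h3 : x⁻¹ * (g : G) ∈ A := hRA ⟨K.mul_mem (K.inv_mem hxC.2) g.2, h2⟩
  obtain ⟨u, hu, v, hv, e⟩ := exists_decomp t h3
  have hact : ∀ q ∈ Q.map K.subtype, (g : G) * q * (g : G)⁻¹ = v * q * v⁻¹ := by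
    intro q hq
    have hq' := hgU q hq
    have hx1 : (g : G) * q * (g : G)⁻¹ * x = x * ((g : G) * q * (g : G)⁻¹) :=
      Subgroup.mem_centralizer_iff.mp hxC.1 _ hq'
    have hx2 : (x⁻¹ * (g : G)) * q * (x⁻¹ * (g : G))⁻¹ = (g : G) * q * (g : G)⁻¹ := by
      calc (x⁻¹ * (g : G)) * q * (x⁻¹ * (g : G))⁻¹
          = x⁻¹ * ((g : G) * q * (g : G)⁻¹ * x) := by group
        _ = x⁻¹ * (x * ((g : G) * q * (g : G)⁻¹)) := by rw [hx1]
        _ = (g : G) * q * (g : G)⁻¹ := by group
    have hvq : v * q * v⁻¹ ∈ pp A t :=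
      Subgroup.mul_mem _ (Subgroup.mul_mem _ hv (hUpp hq)) (Subgroup.inv_mem _ hv)
    have hu1 : (v * q * v⁻¹) * u = u * (v * q * v⁻¹) := commute_pp_pc h.nilA hvq hu
    rw [← hx2, e]
    calc u * v * q * (u * v)⁻¹ = u * (v * q * v⁻¹) * u⁻¹ := by group
      _ = (v * q * v⁻¹) * u * u⁻¹ := by rw [hu1]
      _ = v * q * v⁻¹ := by group
  have hiter : ∀ (i : ℕ) (q : G), q ∈ Q.map K.subtype →
      (g : G) ^ i * q * ((g : G) ^ i)⁻¹ = v ^ i * q * (v ^ i)⁻¹ ∧
        (g : G) ^ i * q * ((g : G) ^ i)⁻¹ ∈ Q.map K.subtype := by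
    intro i
    induction i with
    | zero =>
      intro q hq
      exact ⟨by simp, by simpa using hq⟩
    | succ i ih =>
      intro q hq
      obtain ⟨h4, h5⟩ := ih q hq
      have h6 := hact _ h5
      have e2 : (g : G) ^ (i + 1) * q * ((g : G) ^ (i + 1))⁻¹ =
          (g : G) * ((g : G) ^ i * q * ((g : G) ^ i)⁻¹) * (g : G)⁻¹ := by
        rw [pow_succ']; group
      constructor
      · calc (g : G) ^ (i + 1) * q * ((g : G) ^ (i + 1))⁻¹
            = (g : G) * ((g : G) ^ i * q * ((g : G) ^ i)⁻¹) * (g : G)⁻¹ := e2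
          _ = v * ((g : G) ^ i * q * ((g : G) ^ i)⁻¹) * v⁻¹ := h6
          _ = v * (v ^ i * q * (v ^ i)⁻¹) * v⁻¹ := by rw [h4]
          _ = v ^ (i + 1) * q * (v ^ (i + 1))⁻¹ := by rw [pow_succ']; group
      · rw [e2]; exact hgU _ h5
  obtain ⟨kv, hkv⟩ := isPGroup_pp h.nilA ⟨v, hv⟩
  have hv' : v ^ t ^ kv = 1 := by
    have h4 := congrArg Subtype.val hkv
    simpa using h4
  have hgo : (orderOf (g : G)).Coprime (t ^ kv) := by
    rw [Subgroup.orderOf_coe]; exact Nat.Coprime.pow_right kv hgt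
  obtain ⟨i, hi1, hi2⟩ := Nat.chineseRemainder hgo 1 0
  have hgi : (g : G) ^ i = g := by
    have h4 := (pow_eq_pow_iff_modEq (x := (g : G)) (n := i) (m := 1)).mpr hi1
    rwa [pow_one] at h4
  have hvi : v ^ i = 1 := by
    obtain ⟨c, rfl⟩ := (Nat.modEq_zero_iff_dvd).mp hi2
    rw [pow_mul, hv', one_pow]
  rw [Subgroup.mem_centralizer_iff]
  intro q hq
  have hq' : (q : G) ∈ Q.map K.subtype := ⟨q, hq, rfl⟩
  have h4 := (hiter i q hq').1
  rw [hgi, hvi] at h4
  have h9 : (g : G) * q * (g : G)⁻¹ = q := by simpa using h4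
  exact Subtype.ext (mul_inv_eq_iff_eq_mul.mp h9).symm

/-- A subgroup `K` with `K ∩ N_G(A) ≤ A` containing the `t'`-part of `A` and a central element
of order `t` lies in `A`. -/
theorem le_A_of_inf_normalizer (h : Cfg A B) {t : ℕ} [Fact t.Prime] {K : Subgroup G}
    (hpcK : pc A t ≤ K) {z : G} (hz : Cen A z) (hzt : orderOf z = t) (hzK : z ∈ K)
    (hRA : K ⊓ Subgroup.normalizer (A : Set G) ≤ A) : K ≤ A := by
  have ht : t.Prime := Fact.out
  have hz1 : z ≠ 1 := ne_one_of_orderOf_prime ht hzt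
  have htA : t ∣ Nat.card A := hzt ▸ Subgroup.orderOf_dvd_natCard A hz.1
  have htB : ¬ t ∣ Nat.card B := fun htB =>
    ht.ne_one (Nat.eq_one_of_dvd_coprimes h.cop htA htB)
  have hF := h.frob_cond hpcK hz hzt hzK hRA
  obtain ⟨N, hNn, hNc, kN, hNk⟩ := Helper54.exists_isNormalPComplement_of_frobeniusCondition hF
  have hN'c : Nat.card (N.map K.subtype) = Nat.card N :=
    Subgroup.card_map_of_injective K.subtype_injective
  have hN'n : K ≤ Subgroup.normalizer ((N.map K.subtype : Subgroup G) : Set G) := by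
    refine Subgroup.le_normalizer_iff.mpr ?_
    rintro m hm _ ⟨y, hy, rfl⟩
    exact ⟨⟨m, hm⟩ * y * ⟨m, hm⟩⁻¹, hNn.conj_mem y hy ⟨m, hm⟩, rfl⟩
  have hN'B : (Nat.card (N.map K.subtype)).Coprime (Nat.card B) := by
    refine Nat.coprime_of_dvd fun s hs hsN hsB => ?_
    haveI : Fact s.Prime := ⟨hs⟩
    have hzt' : IsPGroup t (Subgroup.zpowers z) := by
      rw [IsPGroup.iff_card, Nat.card_zpowers, hzt]; exact ⟨1, (pow_one t).symm⟩
    have hR : ¬ t ∣ Nat.card (N.map K.subtype) := by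
      rw [hN'c]; exact (Nat.Prime.coprime_iff_not_dvd ht).mp hNc.symm
    obtain ⟨Q', hQ'⟩ := Helper48.exists_invariant_sylow (N.map K.subtype) (Subgroup.zpowers z)
      hzt' hR (Subgroup.zpowers_le.mpr (hN'n hzK)) s
    have hS := h.no_norm hz hz1 hsB (Q'.2.map (N.map K.subtype).subtype)
      (hQ' (Subgroup.mem_zpowers z))
    have hQne : (Q' : Subgroup (N.map K.subtype)) ≠ ⊥ := Q'.ne_bot_of_dvd_card hsN
    exact hQne ((Subgroup.map_eq_bot_iff_of_injective _ (Subgroup.subtype_injective _)).mp hS)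
  have hKc : (Nat.card K).Coprime (Nat.card B) := by
    have h1 : Nat.card K = Nat.card N * t ^ kN := by
      rw [← hNk]; exact (N.card_mul_index).symm
    rw [h1, ← hN'c]
    exact Nat.Coprime.mul_left hN'B
      (Nat.Coprime.pow_left kN ((Nat.Prime.coprime_iff_not_dvd ht).mpr htB))
  obtain ⟨b, hb, hle⟩ := h.wiel hKc
  have hbN := h.conj_eq_of_mem hz hzt (hle hzK)
  rwa [conj_smul_eq_of_mem_normalizer hbN] at hle

/-- The centralizer of an element of prime order of `A` normalizes `A`. -/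
theorem cent_prime_le (h : Cfg A B) {α : G} (hα : α ∈ A) {t : ℕ} [Fact t.Prime]
    (hαt : orderOf α = t) :
    Subgroup.centralizer ({α} : Set G) ≤ Subgroup.normalizer (A : Set G) := by
  have ht : t.Prime := Fact.out
  have hα1 : α ≠ 1 := ne_one_of_orderOf_prime ht hαt
  by_cases hcase : ∃ y ∈ Subgroup.centralizer ({α} : Set G) ⊓ Subgroup.normalizer (A : Set G),
      y ≠ 1 ∧ (orderOf y).Coprime (Nat.card A)
  · obtain ⟨y, ⟨hyK, hyN⟩, hy1, hyc⟩ := hcase
    have hzc : (Nat.card (Subgroup.zpowers y)).Coprime (Nat.card A) := by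
      rw [Nat.card_zpowers]; exact hyc
    obtain ⟨a, ha, hle⟩ := h.symm.wiel hzc
    have hy' : a⁻¹ * y * a ∈ B := by
      have h1 := hle (Subgroup.mem_zpowers y)
      rwa [Helper1.mem_conj_smul] at h1
    have haN : a ∈ Subgroup.normalizer (A : Set G) := Subgroup.le_normalizer ha
    have hy'N : a⁻¹ * y * a ∈ Subgroup.normalizer (A : Set G) :=
      Subgroup.mul_mem _ (Subgroup.mul_mem _ (Subgroup.inv_mem _ haN) hyN) haN
    have hy'1 : a⁻¹ * y * a ≠ 1 := by
      intro e
      apply hy1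
      have h1 := congrArg (fun z => a * z * a⁻¹) e
      simpa [mul_assoc] using h1
    have hα' : a⁻¹ * α * a ∈ A := A.mul_mem (A.mul_mem (A.inv_mem ha) hα) ha
    have hα'1 : a⁻¹ * α * a ≠ 1 := by
      intro e
      apply hα1
      have h1 := congrArg (fun z => a * z * a⁻¹) e
      simpa [mul_assoc] using h1
    have hyα : α * y = y * α := comm_of_mem_centralizer_singleton hyK
    have hcomm : (a⁻¹ * y * a) * (a⁻¹ * α * a) = (a⁻¹ * α * a) * (a⁻¹ * y * a) := by
      calc (a⁻¹ * y * a) * (a⁻¹ * α * a) = a⁻¹ * (y * α) * a := by group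
        _ = a⁻¹ * (α * y) * a := by rw [hyα]
        _ = (a⁻¹ * α * a) * (a⁻¹ * y * a) := by group
    have h1 : a⁻¹ * α * a ∈ Subgroup.normalizer (B : Set G) :=
      h.cent_le_normalizer hy' hy'N hy'1 (mem_centralizer_singleton hcomm)
    have h2 := h.symm.cent_le_normalizer hα' h1 hα'1
    intro g hg
    have hgα : α * g = g * α := comm_of_mem_centralizer_singleton hg
    have h3 : a⁻¹ * g * a ∈ Subgroup.normalizer (A : Set G) :=
      h2 (mem_centralizer_singleton (by
        calc (a⁻¹ * α * a) * (a⁻¹ * g * a) = a⁻¹ * (α * g) * a := by group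
          _ = a⁻¹ * (g * α) * a := by rw [hgα]
          _ = (a⁻¹ * g * a) * (a⁻¹ * α * a) := by group))
    have h4 := Subgroup.mul_mem _ (Subgroup.mul_mem _ haN h3) (Subgroup.inv_mem _ haN)
    have h5 : a * (a⁻¹ * g * a) * a⁻¹ = g := by group
    rwa [h5] at h4
  · push Not at hcase
    have hRA : Subgroup.centralizer ({α} : Set G) ⊓ Subgroup.normalizer (A : Set G) ≤ A := by
      refine h.le_A_of_le_normalizer inf_le_right ?_
      refine Nat.coprime_of_dvd fun s hs hsR hsB => ?_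
      haveI : Fact s.Prime := ⟨hs⟩
      obtain ⟨y, hy⟩ := exists_prime_orderOf_dvd_card' s hsR
      have hy' : orderOf (y : G) = s := by rw [Subgroup.orderOf_coe]; exact hy
      have hsA : ¬ s ∣ Nat.card A := fun hsA =>
        hs.ne_one (Nat.eq_one_of_dvd_coprimes h.cop hsA hsB)
      refine hcase y y.2 (ne_one_of_orderOf_prime hs hy') ?_
      rw [hy']; exact (Nat.Prime.coprime_iff_not_dvd hs).mpr hsA
    have htA : t ∣ Nat.card A := hαt ▸ Subgroup.orderOf_dvd_natCard A hα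
    obtain ⟨z, hzpp, hzt, hzc⟩ := exists_central_prime h.nilA htA
    have hz : Cen A z := ⟨pp_le A t hzpp, hzc⟩
    have hzK : z ∈ Subgroup.centralizer ({α} : Set G) := mem_centralizer_singleton (hzc α hα)
    have hαpp : α ∈ pp A t := mem_pp hα ⟨1, by rw [hαt, pow_one]⟩
    have hpcK : pc A t ≤ Subgroup.centralizer ({α} : Set G) := fun w hw =>
      mem_centralizer_singleton (commute_pp_pc h.nilA hαpp hw)
    exact (h.le_A_of_inf_normalizer hpcK hz hzt hzK hRA).trans Subgroup.le_normalizer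

/-- `A` is a TI-subgroup. -/
theorem ti (h : Cfg A B) {α g : G} (hα : α ∈ A) (hα1 : α ≠ 1) (hαg : α ∈ MulAut.conj g • A) :
    g ∈ Subgroup.normalizer (A : Set G) := by
  obtain ⟨t, ht, htα⟩ := Nat.exists_prime_and_dvd (fun e => hα1 (orderOf_eq_one_iff.mp e))
  haveI : Fact t.Prime := ⟨ht⟩
  have hβt : orderOf (α ^ (orderOf α / t)) = t :=
    orderOf_pow_orderOf_div (orderOf_pos α).ne' htα
  have hβA : α ^ (orderOf α / t) ∈ A := A.pow_mem hα _
  have hβg : α ^ (orderOf α / t) ∈ MulAut.conj g • A := Subgroup.pow_mem _ hαg _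
  have hK := h.cent_prime_le hβA hβt
  have hβ' : g⁻¹ * α ^ (orderOf α / t) * g ∈ A := by rwa [Helper1.mem_conj_smul] at hβg
  have hβ'pp : g⁻¹ * α ^ (orderOf α / t) * g ∈ pp A t :=
    mem_pp hβ' ⟨1, by rw [orderOf_conj', hβt, pow_one]⟩
  have h1 : MulAut.conj g • pc A t ≤ Subgroup.normalizer (A : Set G) := by
    intro y hy
    rw [Helper1.mem_conj_smul] at hy
    apply hK
    refine mem_centralizer_singleton ?_
    have h2 := commute_pp_pc h.nilA hβ'pp hy
    calc α ^ (orderOf α / t) * y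
        = g * ((g⁻¹ * α ^ (orderOf α / t) * g) * (g⁻¹ * y * g)) * g⁻¹ := by group
      _ = g * ((g⁻¹ * y * g) * (g⁻¹ * α ^ (orderOf α / t) * g)) * g⁻¹ := by rw [h2]
      _ = y * α ^ (orderOf α / t) := by group
  have h2 : MulAut.conj g • pc A t ≤ A :=
    h.le_A_of_le_normalizer h1 (by
      rw [Helper1.card_conj_smul]; exact h.coprime_of_le_A (pc_le A t))
  have h3 : MulAut.conj g • pc A t ≤ pc A t :=
    le_pc_of_card h2 (by rw [Helper1.card_conj_smul]; exact card_pc_coprime h.nilA)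
  exact h.normalizer_pc_le t (mem_normalizer_of_conj_smul_eq (conj_smul_eq_of_le h3 le_rfl))

theorem card_lt (h : Cfg A B) : Nat.card A + 1 ≤ Nat.card B := by
  have hNt : Subgroup.normalizer (A : Set G) ≠ ⊤ := fun htop =>
    h.A_ne_bot (h.eq_bot_of_normalizer htop h.A_ne_top)
  obtain ⟨g, hg⟩ : ∃ g, g ∉ Subgroup.normalizer (A : Set G) := by
    by_contra hall
    push Not at hall
    exact hNt (eq_top_iff.mpr fun x _ => hall x)
  have hf : Function.Injective (fun x : (A × A) ⊕ A =>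
      Sum.elim (fun y : A × A => (y.1 : G) * g * (y.2 : G)) (fun a : A => (a : G)) x) := by
    rintro (⟨a, a'⟩ | a) (⟨c, c'⟩ | c) hxy
    · have e : (a : G) * g * a' = c * g * c' := hxy
      have h1 : (c : G)⁻¹ * a = g * ((c' : G) * (a' : G)⁻¹) * g⁻¹ := by
        have h0 : (a : G) = c * g * c' * (a' : G)⁻¹ * g⁻¹ := by rw [← e]; group
        rw [h0]; group
      have h2 : (c : G)⁻¹ * a ∈ A := A.mul_mem (A.inv_mem c.2) a.2
      have h3 : (c : G)⁻¹ * a ∈ MulAut.conj g • A := by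
        rw [Helper1.mem_conj_smul, h1]
        have h0 : g⁻¹ * (g * ((c' : G) * (a' : G)⁻¹) * g⁻¹) * g = (c' : G) * (a' : G)⁻¹ := by
          group
        rw [h0]; exact A.mul_mem c'.2 (A.inv_mem a'.2)
      have h4 : (c : G)⁻¹ * a = 1 := by
        by_contra hne
        exact hg (h.ti h2 hne h3)
      have h5 : (c : G) = a := inv_mul_eq_one.mp h4
      have h6 : (a' : G) = c' := by
        rw [← h5] at e
        exact mul_left_cancel e
      exact congrArg Sum.inl (Prod.ext (Subtype.ext h5.symm) (Subtype.ext h6))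
    · exfalso
      have e : (a : G) * g * a' = c := hxy
      have h0 : g = (a : G)⁻¹ * c * (a' : G)⁻¹ := by rw [← e]; group
      exact hg (Subgroup.le_normalizer
        (h0 ▸ A.mul_mem (A.mul_mem (A.inv_mem a.2) c.2) (A.inv_mem a'.2)))
    · exfalso
      have e : (a : G) = c * g * c' := hxy
      have h0 : g = (c : G)⁻¹ * a * (c' : G)⁻¹ := by rw [e]; group
      exact hg (Subgroup.le_normalizer
        (h0 ▸ A.mul_mem (A.mul_mem (A.inv_mem c.2) a.2) (A.inv_mem c'.2)))
    · have e : (a : G) = c := hxy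
      exact congrArg Sum.inr (Subtype.ext e)
  have hcard := Nat.card_le_card_of_injective _ hf
  rw [Nat.card_sum, Nat.card_prod, h.card_eq] at hcard
  have h1 : Nat.card A * (Nat.card A + 1) ≤ Nat.card A * Nat.card B := by
    rw [mul_add, mul_one]; exact hcard
  exact Nat.le_of_mul_le_mul_left h1 Nat.card_pos

theorem false_of_cfg (h : Cfg A B) : False := by
  have h1 := h.card_lt
  have h2 := h.symm.card_lt
  omega

end Cfg

/-- **Wielandt's theorem, minimal counterexample**: a finite group `G = AB` with `A`, `B`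
nilpotent of coprime orders, having no proper nontrivial normal subgroup, and all of whose proper
factorized subgroups are solvable, is solvable. -/
theorem core [Finite G] (A B : Subgroup G) (hA : Group.IsNilpotent A)
    (hB : Group.IsNilpotent B) (hcop : (Nat.card A).Coprime (Nat.card B))
    (hAB : ∀ g : G, ∃ a ∈ A, ∃ b ∈ B, g = a * b)
    (hsimple : ∀ N : Subgroup G, N.Normal → N = ⊥ ∨ N = ⊤)
    (IH : ∀ L : Subgroup G, L ≠ ⊤ →
      (∀ g ∈ L, ∃ a ∈ A ⊓ L, ∃ b ∈ B ⊓ L, g = a * b) → Group.IsSolvable L) :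
    Group.IsSolvable G := by
  by_contra hns
  exact Cfg.false_of_cfg ⟨hA, hB, hcop, hAB, hsimple, IH, hns⟩

end Cfsg.Agent.Lib.Helper29.WP
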